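import Mathlib
import Cfsg.Agent.Lib.Blocks.Star.LocalAlgebra

/-!
# The simple representations attached to the classes of primitive idempotents

For a decomposition of one into primitive idempotents, each class of equivalent idempotents gives
a matrix representation over the residue field, whose trace at an idempotent of the decomposition
is one on the class and zero off it.
-/

set_option linter.style.haveILetI false
set_option linter.unusedSectionVars false

namespace Cfsg.Agent.Blocks.BrauerChar

open Cfsg.Agent.Blocks.Star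

universe u v

variable {O : Type u} [CommRing O] [IsLocalRing O] {R : Type v} [Ring R] [Algebra O R]
  [Module.Finite O R]

theorem equiv_refl {j : R} (hj : IsPrim j) : Equiv' j j :=
  ⟨j, j, by rw [hj.idem, hj.idem], by rw [hj.idem, hj.idem], hj.idem, hj.idem⟩

theorem equiv_symm {j q : R} (h : Equiv' j q) : Equiv' q j := by
  obtain ⟨r, r', h1, h2, h3, h4⟩ := h
  exact ⟨r', r, h2, h1, h4, h3⟩

theorem link_mem {j q r : R} (hj : j * j = j) (hq : q * q = q) (h : j * r * q = r) :
    j * r = r ∧ r * q = r := by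
  constructor
  · conv_lhs => rw [← h, ← mul_assoc, ← mul_assoc, hj]
    exact h
  · conv_lhs => rw [← h, mul_assoc, hq]
    exact h

theorem equiv_trans {j q k : R} (hj : j * j = j) (hq : q * q = q) (hk : k * k = k)
    (h : Equiv' j q) (h' : Equiv' q k) : Equiv' j k := by
  obtain ⟨r, r', h1, h2, h3, h4⟩ := h
  obtain ⟨s, s', g1, g2, g3, g4⟩ := h'
  obtain ⟨a1, a2⟩ := link_mem hj hq h1
  obtain ⟨b1, b2⟩ := link_mem hq hj h2
  obtain ⟨c1, c2⟩ := link_mem hq hk g1
  obtain ⟨d1, d2⟩ := link_mem hk hq g2
  exact ⟨r * s, s' * r', by rw [← mul_assoc, a1, mul_assoc, c2],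
    by rw [← mul_assoc, d1, mul_assoc, b2],
    by rw [mul_assoc, ← mul_assoc s, g3, b1, h3],
    by rw [mul_assoc, ← mul_assoc r', h4, c1, g4]⟩

/-- A primitive idempotent is equivalent to a member of every decomposition of one. -/
theorem exists_equiv_mem (hO : SplitsAll O) {J : Finset R} (hJ : IsDecomp (1 : R) J) {q : R}
    (hq : IsPrim q) : ∃ k ∈ J, Equiv' q k := by
  by_contra hcon
  push Not at hcon
  have h0 : ∀ k ∈ J, eig O q (q * k * q) = 0 := fun k hk => by
    by_contra hne
    refine hcon k hk (exists_equiv hO hq (hJ.prim k hk) (x := q * k) (y := k * q) ?_ ?_ ?_)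
    · rw [← mul_assoc, hq.idem, mul_assoc, (hJ.prim k hk).idem]
    · rw [← mul_assoc, (hJ.prim k hk).idem, mul_assoc, hq.idem]
    · rwa [mul_assoc q k, ← mul_assoc k, (hJ.prim k hk).idem, ← mul_assoc]
  have h1 := eig_self hO hq
  have e : ∑ k ∈ J, q * k * q = q := by
    rw [← Finset.sum_mul, ← Finset.mul_sum, hJ.sum, mul_one, hq.idem]
  replace h1 : eig O q (∑ k ∈ J, q * k * q) = 1 := by rw [e]; exact h1
  rw [eig_sum hO hq J fun k _ => inCorner_mul_mul hq.idem k, Finset.sum_eq_zero h0] at h1
  exact zero_ne_one h1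

variable (hO : SplitsAll O) {j : R} (hj : IsPrim j)

include hO hj in
theorem eig_smul' (a : O) {y : R} (hy : InCorner j y) :
    eig O j (a • y) = IsLocalRing.residue O a * eig O j y := by
  obtain ⟨b, ⟨n, hn⟩, hb⟩ := exists_eig_eq hO hj hy
  rw [hb, ← map_mul]
  refine eig_eq hO hj ⟨by rw [mul_smul_comm, hy.1], by rw [smul_mul_assoc, hy.2]⟩ ⟨n, ?_⟩
  rw [mul_smul, ← smul_sub, _root_.smul_pow]
  exact Submodule.smul_mem _ _ hn

include hO hj in
/-- The residue eigenvalue is multiplicative on the corner. -/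
theorem eig_mul {x y : R} (hx : InCorner j x) (hy : InCorner j y) :
    eig O j (x * y) = eig O j x * eig O j y := by
  obtain ⟨a, ha, ha'⟩ := exists_eig_eq hO hj hx
  have hc : InCorner j (x - a • j) := ⟨by rw [mul_sub, hx.1, mul_smul_comm, hj.idem],
    by rw [sub_mul, hx.2, smul_mul_assoc, hj.idem]⟩
  have h0 := (eig_nil_mul hO hj hc (eig_zero_of_nil hO hj hc ha) hy).1
  have e : x * y = (x - a • j) * y + a • y := by
    rw [sub_mul, smul_mul_assoc, hy.1, sub_add_cancel]
  rw [e, eig_add hO hj ⟨by rw [← mul_assoc, hc.1], by rw [mul_assoc, hy.2]⟩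
      ⟨by rw [mul_smul_comm, hy.1], by rw [smul_mul_assoc, hy.2]⟩,
    h0, zero_add, eig_smul' hO hj a hy, ha']

open scoped Classical in
/-- The members of the class of `j` in a decomposition. -/
noncomputable def cls (j : R) (J : Finset R) : Finset R := J.filter (Equiv' j)

theorem mem_cls {J : Finset R} {q : R} : q ∈ cls j J ↔ q ∈ J ∧ Equiv' j q := by
  simp [cls]

theorem equiv_of_cls {J : Finset R} (q : cls j J) : Equiv' j (q : R) := (mem_cls.1 q.2).2

/-- The link from `j` to a member of its class. -/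
noncomputable def lnk {J : Finset R} (q : cls j J) : R := (equiv_of_cls q).choose

/-- The link back. -/
noncomputable def lnk' {J : Finset R} (q : cls j J) : R := (equiv_of_cls q).choose_spec.choose

theorem lnk_spec {J : Finset R} (q : cls j J) :
    j * lnk q * q = lnk q ∧ (q : R) * lnk' q * j = lnk' q ∧
      lnk q * lnk' q = j ∧ lnk' q * lnk q = q :=
  (equiv_of_cls q).choose_spec.choose_spec

variable (O j) in
/-- The representation on the class of `j`. -/
noncomputable def rep (J : Finset R) (x : R) :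
    Matrix (cls j J) (cls j J) (IsLocalRing.ResidueField O) :=
  Matrix.of fun q q' => eig O j (lnk q * x * lnk' q')

variable {J : Finset R} (hJ : IsDecomp (1 : R) J)

include hj hJ in
theorem lnk_mem (q : cls j J) :
    j * lnk q = lnk q ∧ lnk q * q = lnk q ∧ (q : R) * lnk' q = lnk' q ∧ lnk' q * j = lnk' q := by
  have hq := (hJ.prim _ (mem_cls.1 q.2).1).idem
  obtain ⟨h1, h2, -, -⟩ := lnk_spec q
  exact ⟨(link_mem hj.idem hq h1).1, (link_mem hj.idem hq h1).2, (link_mem hq hj.idem h2).1,
    (link_mem hq hj.idem h2).2⟩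

include hj hJ in
theorem inCorner_rep (q q' : cls j J) (x : R) : InCorner j (lnk q * x * lnk' q') :=
  ⟨by rw [← mul_assoc, ← mul_assoc, (lnk_mem hj hJ q).1],
    by rw [mul_assoc, (lnk_mem hj hJ q').2.2.2]⟩

include hO hj hJ in
theorem rep_add (x y : R) : rep O j J (x + y) = rep O j J x + rep O j J y := by
  ext q q'
  simp only [rep, Matrix.of_apply, Matrix.add_apply]
  rw [mul_add, add_mul, eig_add hO hj (inCorner_rep hj hJ q q' x) (inCorner_rep hj hJ q q' y)]

include hO hj hJ in
theorem rep_smul (a : O) (x : R) : rep O j J (a • x) = IsLocalRing.residue O a • rep O j J x := by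
  ext q q'
  simp only [rep, Matrix.of_apply, Matrix.smul_apply, smul_eq_mul]
  rw [mul_smul_comm, smul_mul_assoc, eig_smul' hO hj a (inCorner_rep hj hJ q q' x)]

include hO hj hJ in
theorem rep_one [DecidableEq (cls j J)] : rep O j J 1 = 1 := by
  ext q q'
  simp only [rep, Matrix.of_apply, mul_one]
  by_cases h : q = q'
  · subst h
    rw [Matrix.one_apply_eq, (lnk_spec q).2.2.1, eig_self hO hj]
  · rw [Matrix.one_apply_ne h]
    have h0 : lnk q * lnk' q' = 0 := by
      rw [← (lnk_mem hj hJ q).2.1, ← (lnk_mem hj hJ q').2.2.1, mul_assoc, ← mul_assoc (q : R),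
        hJ.orth _ (mem_cls.1 q.2).1 _ (mem_cls.1 q'.2).1 fun e => h (Subtype.ext e), zero_mul,
        mul_zero]
    rw [h0]
    simpa using eig_smul_self hO hj (0 : O)

include hO hj hJ in
theorem rep_mul (x y : R) : rep O j J (x * y) = rep O j J x * rep O j J y := by
  classical
  ext q q''
  simp only [rep, Matrix.of_apply, Matrix.mul_apply]
  set F : R → R := fun k => lnk q * x * k * y * lnk' q''
  have hF : ∀ k, InCorner j (F k) := fun k => by
    have := inCorner_rep hj hJ q q'' (x * k * y)
    simpa only [F, mul_assoc] using this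
  have e1 : lnk q * (x * y) * lnk' q'' = ∑ k ∈ J, F k := by
    simp only [F, ← Finset.sum_mul, ← Finset.mul_sum, hJ.sum, mul_assoc, one_mul]
  rw [e1, eig_sum hO hj J fun k _ => hF k,
    ← Finset.sum_subset (s₁ := cls j J) (fun k hk => (mem_cls.1 hk).1) fun k hk hk' => ?_,
    ← Finset.sum_coe_sort (cls j J)]
  · refine Finset.sum_congr rfl fun k _ => ?_
    rw [← eig_mul hO hj (inCorner_rep hj hJ q k x) (inCorner_rep hj hJ k q'' y)]
    congr 1
    simp only [F, mul_assoc]
    rw [← mul_assoc (lnk' k) (lnk k), (lnk_spec k).2.2.2]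
  · by_contra hne
    refine hk' (mem_cls.2 ⟨hk, exists_equiv hO hj (hJ.prim k hk) (x := lnk q * x * k)
      (y := k * y * lnk' q'') ?_ ?_ ?_⟩)
    · rw [← mul_assoc, ← mul_assoc, (lnk_mem hj hJ q).1, mul_assoc, (hJ.prim k hk).idem]
    · rw [← mul_assoc, ← mul_assoc, (hJ.prim k hk).idem, mul_assoc, (lnk_mem hj hJ q'').2.2.2]
    · rwa [show lnk q * x * k * (k * y * lnk' q'') = F k by
        simp only [F, mul_assoc]; rw [← mul_assoc k k, (hJ.prim k hk).idem]]

/-- The representation, as a ring homomorphism. -/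
noncomputable def repHom [DecidableEq (cls j J)] : R →+* Matrix (cls j J) (cls j J) (IsLocalRing.ResidueField O) where
  toFun := rep O j J
  map_one' := rep_one hO hj hJ
  map_mul' := rep_mul hO hj hJ
  map_add' := rep_add hO hj hJ
  map_zero' := by
    have h := rep_smul hO hj hJ (0 : O) (0 : R)
    rwa [zero_smul, map_zero, zero_smul] at h

theorem repHom_apply [DecidableEq (cls j J)] (x : R) : repHom hO hj hJ x = rep O j J x := rfl

/-- The trace at a member of the decomposition. -/
theorem trace_rep_mem [DecidableEq (cls j J)] {k : R} (hk : k ∈ J) [Decidable (Equiv' j k)] :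
    Matrix.trace (repHom hO hj hJ k) = if Equiv' j k then 1 else 0 := by
  classical
  have hdiag : ∀ q : cls j J, repHom hO hj hJ k q q = if (q : R) = k then 1 else 0 := by
    intro q
    rw [repHom_apply, rep, Matrix.of_apply, ← (lnk_mem hj hJ q).2.1]
    by_cases h : (q : R) = k
    · rw [if_pos h, ← h, mul_assoc (lnk q) (q : R) (q : R), (hJ.prim _ (mem_cls.1 q.2).1).idem,
        (lnk_mem hj hJ q).2.1, (lnk_spec q).2.2.1, eig_self hO hj]
    · rw [if_neg h, mul_assoc (lnk q) (q : R) k, hJ.orth _ (mem_cls.1 q.2).1 _ hk h, mul_zero,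
        zero_mul]
      simpa using eig_smul_self hO hj (0 : O)
  simp only [Matrix.trace, Matrix.diag, hdiag]
  rw [Finset.sum_coe_sort (cls j J) fun q => if q = k then (1 : IsLocalRing.ResidueField O) else 0,
    Finset.sum_ite_eq']
  exact if_congr ⟨fun h => (mem_cls.1 h).2, fun h => mem_cls.2 ⟨hk, h⟩⟩ rfl rfl

end Cfsg.Agent.Blocks.BrauerChar
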