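import Mathlib
import Cfsg.Prelude.Def_BlockRank
import Cfsg.Agent.Lib.Blocks.BrauerChar.Simple
import Cfsg.Agent.Lib.Blocks.Star.Local

/-!
# Brauer characters through primitive idempotents

The classes of primitive idempotents of the integral group algebra are as many as the classes of
regular elements; the functions dual to the evaluations at them are the irreducible Brauer
characters, and the decomposition numbers are the values of the characters at the idempotents.
-/

set_option linter.style.haveILetI false
set_option linter.unusedSectionVars false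

namespace Cfsg.Agent.Blocks.BrauerChar

open Cfsg.Agent.Blocks Cfsg.Agent.Characters Cfsg.Agent.Blocks.Star
open MonoidAlgebra
open scoped ComplexConjugate

universe u

variable {K : Type u} [Group K] [Finite K] {p : ℕ} {M : Ideal Cfsg.AlgInt}

/-- The integral group algebra. -/
noncomputable abbrev alg (hM : Cfsg.IsPModular p M) (K : Type u) [Group K] [Finite K] :=
  fixAlg hM (⊥ : Subgroup K) ⊤

theorem isFix_int {x : MonoidAlgebra ℂ K} (hx : IntEl M x) :
    IsFix M (⊥ : Subgroup K) ⊤ x :=
  ⟨hx, fun u hu g => by rw [Subgroup.mem_bot.1 hu]; simp,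
    fun g hg => absurd (Subgroup.mem_top g) hg⟩

/-- An integral element, in the algebra. -/
noncomputable def mkA (hM : Cfsg.IsPModular p M) {x : MonoidAlgebra ℂ K} (hx : IntEl M x) :
    alg hM K :=
  ⟨x, isFix_int hx⟩

variable (hM : Cfsg.IsPModular p M)

variable (K) in
/-- A decomposition of one into primitive idempotents. -/
noncomputable def dec : Finset (alg hM K) :=
  (exists_decomp (Loc hM) (e := (1 : alg hM K)) (one_mul 1)).choose

theorem dec_spec : IsDecomp (1 : alg hM K) (dec K hM) :=
  (exists_decomp (Loc hM) (e := (1 : alg hM K)) (one_mul 1)).choose_spec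

variable (K) in
/-- Equivalence on the decomposition. -/
noncomputable def setoid : Setoid (dec K hM) where
  r q q' := Equiv' (q : alg hM K) q'
  iseqv :=
    { refl := fun q => equiv_refl ((dec_spec hM).prim _ q.2)
      symm := equiv_symm
      trans := fun {a b c} h h' => equiv_trans ((dec_spec hM).prim _ a.2).idem
        ((dec_spec hM).prim _ b.2).idem ((dec_spec hM).prim _ c.2).idem h h' }

variable (K) in
/-- The classes of primitive idempotents. -/
def Cls : Type u := Quotient (setoid K hM)

noncomputable instance : Fintype (Cls K hM) :=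
  haveI : Finite (Cls K hM) := Quotient.finite _
  Fintype.ofFinite _

/-- A member of a class. -/
noncomputable def mem' (c : Cls K hM) : dec K hM := Quotient.out (s := setoid K hM) c

/-- The member, in the group algebra. -/
noncomputable def pi (c : Cls K hM) : MonoidAlgebra ℂ K := ((mem' hM c : alg hM K)).1

theorem mem'_prim (c : Cls K hM) : IsPrim (mem' hM c : alg hM K) :=
  (dec_spec hM).prim _ (mem' hM c).2

theorem intEl_pi (c : Cls K hM) : IntEl M (pi hM c) := (mem' hM c : alg hM K).2.int

theorem pi_idem (c : Cls K hM) : pi hM c * pi hM c = pi hM c :=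
  congrArg Subtype.val (mem'_prim hM c).idem

theorem eq_of_equiv {c d : Cls K hM}
    (h : Equiv' (mem' hM c : alg hM K) (mem' hM d : alg hM K)) : c = d := by
  rw [← Quotient.out_eq (s := setoid K hM) c, ← Quotient.out_eq (s := setoid K hM) d]
  exact Quotient.sound (s := setoid K hM) h

/-- A member of the class of a member. -/
theorem equiv_mem' (q : dec K hM) :
    Equiv' (q : alg hM K) (mem' hM (Quotient.mk (setoid K hM) q) : alg hM K) := by
  have h : (setoid K hM).r q (mem' hM (Quotient.mk (setoid K hM) q)) :=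
    Quotient.exact (Quotient.out_eq (s := setoid K hM) (Quotient.mk (setoid K hM) q)).symm
  exact h

/-- The class of a primitive idempotent. -/
theorem exists_cls {q : alg hM K} (hq : IsPrim q) :
    ∃ c : Cls K hM, Equiv' q (mem' hM c : alg hM K) := by
  obtain ⟨k, hk, hqk⟩ := exists_equiv_mem (splitsAll_loc hM) (dec_spec hM) hq
  exact ⟨Quotient.mk (setoid K hM) ⟨k, hk⟩, equiv_trans hq.idem
    ((dec_spec hM).prim k hk).idem (mem'_prim hM (Quotient.mk (setoid K hM) ⟨k, hk⟩)).idem hqk
    (equiv_mem' hM ⟨k, hk⟩)⟩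

theorem evalChar_equiv {f : K → ℂ} (hf : Cfsg.IsClassFunction K f) {q q' : alg hM K}
    (h : Equiv' q q') : evalChar f q.1 = evalChar f q'.1 := by
  obtain ⟨r, r', -, -, h3, h4⟩ := h
  rw [← congrArg Subtype.val h3, ← congrArg Subtype.val h4, Subalgebra.coe_mul,
    Subalgebra.coe_mul, evalChar_mul_comm hf]

/-- Every integral idempotent counts the classes with natural multiplicities. -/
theorem exists_mult {E : MonoidAlgebra ℂ K} (hE : IntEl M E) (hid : E * E = E) :
    ∃ m : Cls K hM → ℕ, ∀ f : K → ℂ, Cfsg.IsClassFunction K f →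
      evalChar f E = ∑ c, (m c : ℂ) * evalChar f (pi hM c) := by
  classical
  obtain ⟨J, hJ⟩ := exists_decomp (Loc hM) (e := mkA hM hE) (Subtype.ext hid)
  have hc : ∀ q : J, ∃ c : Cls K hM, Equiv' (q : alg hM K) (mem' hM c : alg hM K) :=
    fun q => exists_cls hM (hJ.prim _ q.2)
  choose cl hcl using hc
  refine ⟨fun c => (Finset.univ.filter fun q : J => cl q = c).card, fun f hf => ?_⟩
  have e : E = ∑ q : J, ((q : alg hM K)).1 := by
    rw [Finset.sum_coe_sort J fun q : alg hM K => q.1]
    have h := congrArg Subtype.val hJ.sum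
    rw [AddSubmonoidClass.coe_finsetSum] at h
    exact h.symm
  rw [e, evalChar_sum, ← Finset.sum_fiberwise Finset.univ cl]
  refine Finset.sum_congr rfl fun c _ => ?_
  rw [Finset.sum_congr rfl (g := fun _ => evalChar f (pi hM c)) fun q hq => ?_, Finset.sum_const,
    nsmul_eq_mul]
  rw [← (Finset.mem_filter.1 hq).2]
  exact evalChar_equiv hM hf (hcl q)

/-! ### Functions on the regular classes -/

variable (K p) in
/-- The classes of regular elements. -/
abbrev RC : Type u := {C : ConjClasses K // ¬ p ∣ orderOf C.out}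

noncomputable instance : Fintype (RC K p) := Fintype.ofFinite _

theorem orderOf_conjugate (g a : K) : orderOf (a * g * a⁻¹) = orderOf g :=
  (MulAut.conj a).orderOf_eq g

theorem orderOf_out (g : K) : orderOf (ConjClasses.mk g).out = orderOf g := by
  obtain ⟨a, ha⟩ := isConj_iff.1 (ConjClasses.mk_eq_mk_iff_isConj.1
    (Quotient.out_eq (ConjClasses.mk g)))
  conv_rhs => rw [← ha]
  rw [orderOf_conjugate]

variable (p) in
/-- Extension by zero. -/
noncomputable def ext : (RC K p → ℂ) →ₗ[ℂ] (K → ℂ) where
  toFun f := fun g => if h : p ∣ orderOf g then 0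
    else f ⟨ConjClasses.mk g, by rwa [orderOf_out]⟩
  map_add' f f' := by
    funext g
    simp only [Pi.add_apply]
    split <;> simp
  map_smul' a f := by
    funext g
    simp only [Pi.smul_apply, RingHom.id_apply, smul_eq_mul]
    split <;> simp

theorem ext_reg (f : RC K p → ℂ) {g : K} (hg : ¬ p ∣ orderOf g) :
    ext p f g = f ⟨ConjClasses.mk g, by rwa [orderOf_out]⟩ := by
  simp [ext, hg]

theorem ext_sing (f : RC K p → ℂ) {g : K} (hg : p ∣ orderOf g) : ext p f g = 0 := by
  simp [ext, hg]

theorem isClassFunction_ext (f : RC K p → ℂ) : Cfsg.IsClassFunction K (ext p f) := fun g a => by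
  by_cases hg : p ∣ orderOf g
  · rw [ext_sing f hg, ext_sing f (by rwa [orderOf_conjugate])]
  · rw [ext_reg f hg, ext_reg f (by rwa [orderOf_conjugate])]
    congr 1
    exact Subtype.ext (ConjClasses.mk_eq_mk_iff_isConj.2 (isConj_iff.2 ⟨a, rfl⟩)).symm

variable (p) in
/-- Restriction to the regular classes. -/
noncomputable def res : (K → ℂ) →ₗ[ℂ] (RC K p → ℂ) where
  toFun f := fun C => f C.1.out
  map_add' _ _ := rfl
  map_smul' _ _ := rfl

theorem ext_res {f : K → ℂ} (hf : Cfsg.IsClassFunction K f) {g : K} (hg : ¬ p ∣ orderOf g) :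
    ext p (res p f) g = f g := by
  rw [ext_reg _ hg]
  obtain ⟨a, ha⟩ := isConj_iff.1 (ConjClasses.mk_eq_mk_iff_isConj.1
    (Quotient.out_eq (ConjClasses.mk g)))
  show f (ConjClasses.mk g).out = f g
  conv_rhs => rw [← ha, hf]

theorem res_ext (f : RC K p → ℂ) : res p (ext p f) = f := funext fun C => by
  show ext p f C.1.out = f C
  rw [ext_reg f C.2]
  congr 1
  exact Subtype.ext (Quotient.out_eq C.1)

theorem pRegularPart_eq {f : K → ℂ} (hf : Cfsg.IsClassFunction K f) :
    Cfsg.pRegularPart p f = ext p (res p f) := funext fun g => by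
  by_cases hg : p ∣ orderOf g
  · simp [Cfsg.pRegularPart, Cfsg.IsPRegular, hg, ext_sing _ hg]
  · simp [Cfsg.pRegularPart, Cfsg.IsPRegular, hg, ext_res hf hg]

/-! ### The residue traces -/

open scoped Classical in
/-- The residue trace at a class. -/
noncomputable def lam (c : Cls K hM) (x : alg hM K) : IsLocalRing.ResidueField (Loc hM) :=
  Matrix.trace (repHom (splitsAll_loc hM) (mem'_prim hM c) (dec_spec hM) x)

/-- A group element, in the algebra. -/
noncomputable def el (g : K) : alg hM K := mkA hM (intEl_single hM g (ring_one hM))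

theorem el_mul (g h : K) : el hM (g * h) = el hM g * el hM h :=
  Subtype.ext (by
    show single (g * h) (1 : ℂ) = single g 1 * single h 1
    rw [single_mul_single, one_mul])

theorem el_one : el hM (1 : K) = 1 := Subtype.ext (MonoidAlgebra.one_def).symm

theorem lam_conj (c : Cls K hM) (g a : K) :
    lam hM c (el hM (a * g * a⁻¹)) = lam hM c (el hM g) := by
  classical
  simp only [lam]
  rw [el_mul, el_mul, map_mul, map_mul, Matrix.trace_mul_comm, ← mul_assoc, ← map_mul (repHom _ _ _)
    (el hM a⁻¹), ← el_mul, inv_mul_cancel, el_one, map_one, one_mul]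

theorem lam_regular_part (c : Cls K hM) {g u s : K} (h : g = u * s) (hus : Commute u s) {k : ℕ}
    (hu : u ^ p ^ k = 1) : lam hM c (el hM g) = lam hM c (el hM s) := by
  classical
  simp only [lam]
  set ρ := repHom (splitsAll_loc hM) (mem'_prim hM c) (dec_spec hM)
  set N := ρ (el hM u) - 1
  have hp0 : (p : Matrix (cls (mem' hM c : alg hM K) (dec K hM))
      (cls (mem' hM c : alg hM K) (dec K hM)) (IsLocalRing.ResidueField (Loc hM))) = 0 := by
    rw [← map_natCast (algebraMap (IsLocalRing.ResidueField (Loc hM))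
      (Matrix (cls (mem' hM c : alg hM K) (dec K hM))
        (cls (mem' hM c : alg hM K) (dec K hM)) (IsLocalRing.ResidueField (Loc hM)))),
      residue_natCast_p hM, map_zero]
  have hpow : ∀ n : ℕ, el hM (u ^ n) = el hM u ^ n := by
    intro n
    induction n with
    | zero => rw [pow_zero, pow_zero, el_one]
    | succ n ih => rw [pow_succ, pow_succ, el_mul, ih]
  have hnil : IsNilpotent N := by
    refine ⟨p ^ k, ?_⟩
    haveI := fact_prime_of_pm hM
    obtain ⟨r, hr⟩ := (Commute.one_right N).exists_add_pow_prime_pow_eq hM.1 k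
    have h1 : (N + 1) ^ p ^ k = 1 := by
      rw [sub_add_cancel, ← map_pow, ← hpow, hu, el_one, map_one]
    rw [h1, one_pow, hp0] at hr
    simp only [zero_mul, mul_zero, add_zero] at hr
    have := congrArg (· - (1 : Matrix _ _ _)) hr.symm
    simpa using this
  have hcomm : Commute N (ρ (el hM s)) :=
    (((show Commute (el hM u) (el hM s) by
      rw [commute_iff_eq, ← el_mul, ← el_mul, hus.eq]).map ρ).sub_left (Commute.one_left _))
  have h0 : Matrix.trace (N * ρ (el hM s)) = 0 :=
    (Matrix.isNilpotent_trace_of_isNilpotent (hcomm.isNilpotent_mul_right hnil)).eq_zero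
  rw [sub_mul, one_mul, Matrix.trace_sub, sub_eq_zero, ← map_mul, ← el_mul, ← h] at h0
  exact h0

/-- The residue traces are independent on the regular classes. -/
theorem card_cls_le : Nat.card (Cls K hM) ≤ Nat.card (RC K p) := by
  classical
  haveI := Fintype.ofFinite K
  let v : Cls K hM → RC K p → IsLocalRing.ResidueField (Loc hM) :=
    fun c C => lam hM c (el hM C.1.out)
  suffices hli : LinearIndependent (IsLocalRing.ResidueField (Loc hM)) v by
    simpa [Nat.card_eq_fintype_card] using hli.fintype_card_le_finrank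
  rw [Fintype.linearIndependent_iff]
  intro a ha d
  have h0 : ∀ g : K, ∑ c, a c * lam hM c (el hM g) = 0 := by
    intro g
    obtain ⟨u, s, hgs, hc, ⟨k, hk⟩, hs⟩ := exists_ppart hM.1 g
    have huk : u ^ p ^ k = 1 := by rw [← hk, pow_orderOf_eq_one]
    have h1 := congrFun ha (⟨ConjClasses.mk s, by rwa [orderOf_out]⟩ : RC K p)
    simp only [Finset.sum_apply, Pi.smul_apply, smul_eq_mul, Pi.zero_apply, v] at h1
    rw [← h1]
    refine Finset.sum_congr rfl fun c _ => ?_
    rw [lam_regular_part hM c hgs.symm hc huk]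
    obtain ⟨b, hb⟩ := isConj_iff.1 (ConjClasses.mk_eq_mk_iff_isConj.1
      (Quotient.out_eq (ConjClasses.mk s)))
    conv_lhs => rw [← hb, lam_conj]
  have hx : ∀ x : alg hM K, ∑ c, a c * lam hM c x = 0 := by
    intro x
    have e : x = ∑ g : K, (⟨x.1.coeff g, x.2.int g⟩ : Loc hM) • el hM g := by
      refine Subtype.ext ?_
      rw [AddSubmonoidClass.coe_finsetSum]
      conv_lhs => rw [eq_sum_single x.1]
      refine Finset.sum_congr rfl fun g _ => ?_
      rw [Subalgebra.coe_smul, loc_smul_def]
      show _ = x.1.coeff g • single g (1 : ℂ)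
      simp [MonoidAlgebra.smul_single]
    have hl : ∀ c, lam hM c x = ∑ g : K,
        IsLocalRing.residue (Loc hM) ⟨x.1.coeff g, x.2.int g⟩ * lam hM c (el hM g) := fun c => by
      simp only [lam]
      conv_lhs => rw [e, map_sum, Matrix.trace_sum]
      refine Finset.sum_congr rfl fun g _ => ?_
      rw [repHom_apply, rep_smul (splitsAll_loc hM) (mem'_prim hM c) (dec_spec hM),
        Matrix.trace_smul, smul_eq_mul]
      rfl
    simp only [hl, Finset.mul_sum]
    rw [Finset.sum_comm]
    refine Finset.sum_eq_zero fun g _ => ?_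
    rw [Finset.sum_congr rfl fun c _ => mul_left_comm _ _ _, ← Finset.mul_sum, h0, mul_zero]
  have h := hx (mem' hM d)
  simp only [lam, trace_rep_mem (splitsAll_loc hM) (mem'_prim hM _) (dec_spec hM)
    (mem' hM d).2] at h
  rw [Finset.sum_eq_single d (fun c _ hcd => by
    rw [if_neg fun he => hcd (eq_of_equiv hM he), mul_zero])
    (fun hn => absurd (Finset.mem_univ _) hn), if_pos (equiv_refl (mem'_prim hM d)), mul_one] at h
  exact h

/-! ### The dual basis -/

/-- The cyclic idempotents span the regular elements. -/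
theorem single_eq_sum_idem (hM : Cfsg.IsPModular p M) {s : K} (hs : ¬ p ∣ orderOf s) :
    ∃ (o : ℕ) (b : ℕ → ℂ) (E : ℕ → MonoidAlgebra ℂ K),
      (∀ i, IntEl M (E i) ∧ E i * E i = E i) ∧
        single s (1 : ℂ) = ∑ i ∈ Finset.range o, b i • E i := by
  classical
  set o := orderOf s with ho
  have ho0 : 0 < o := orderOf_pos s
  have hoC : (o : ℂ) ≠ 0 := Nat.cast_ne_zero.2 ho0.ne'
  set ζ : ℂ := Complex.exp (2 * Real.pi * Complex.I / o)
  have hζ : IsPrimitiveRoot ζ o := Complex.isPrimitiveRoot_exp o ho0.ne'
  let X : ℕ → MonoidAlgebra ℂ K := fun i => single s (ζ ^ i)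
  let E : ℕ → MonoidAlgebra ℂ K := fun i => (o : ℂ)⁻¹ • ∑ j ∈ Finset.range o, X i ^ j
  have hX : ∀ i j, X i ^ j = single (s ^ j) (ζ ^ (i * j)) := fun i j => by
    simp only [X, MonoidAlgebra.single_pow, ← pow_mul]
  have hXG : ∀ i, X i * ∑ j ∈ Finset.range o, X i ^ j = ∑ j ∈ Finset.range o, X i ^ j := by
    intro i
    have h1 : X i ^ o = 1 := by
      rw [hX, ho, pow_orderOf_eq_one, ← ho, mul_comm, pow_mul, hζ.pow_eq_one, one_pow,
        MonoidAlgebra.one_def]
    have h2 := mul_geom_sum (X i) o
    rw [h1, sub_self, sub_mul, one_mul, sub_eq_zero] at h2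
    exact h2
  have hpow : ∀ i k, X i ^ k * ∑ j ∈ Finset.range o, X i ^ j = ∑ j ∈ Finset.range o, X i ^ j := by
    intro i k
    induction k with
    | zero => rw [pow_zero, one_mul]
    | succ k ih => rw [pow_succ, mul_assoc, hXG, ih]
  have hinv : Cfsg.MemLocalRing M ((o : ℂ)⁻¹) :=
    ring_inv hM (ring_natCast hM o) fun h => hs ((ideal_natCast_iff hM o).1 h)
  have hEint : ∀ i, IntEl M (E i) := fun i => intEl_smul hM hinv (intEl_sum hM fun j _ => by
    rw [hX]
    exact intEl_single hM _ (ring_of_isIntegral hM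
      (isIntegral_of_pow_eq_one ho0.ne'
        (by rw [← pow_mul, mul_comm, pow_mul, hζ.pow_eq_one, one_pow]))))
  have hEE : ∀ i, E i * E i = E i := fun i => by
    simp only [E, smul_mul_smul_comm, Finset.sum_mul, hpow, Finset.sum_const, Finset.card_range,
      ← Nat.cast_smul_eq_nsmul ℂ, smul_smul]
    congr 1
    field_simp
  have hsum : ∑ i ∈ Finset.range o, E i = 1 := by
    simp only [E, ← Finset.smul_sum, hX]
    rw [Finset.sum_comm, Finset.sum_eq_single_of_mem 0 (Finset.mem_range.2 ho0)]
    · simp only [mul_zero, pow_zero, Finset.sum_const, Finset.card_range,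
        ← Nat.cast_smul_eq_nsmul ℂ, ← MonoidAlgebra.one_def, smul_smul, inv_mul_cancel₀ hoC,
        one_smul]
    · intro j hj hj0
      show ∑ i ∈ Finset.range o, MonoidAlgebra.singleAddHom (s ^ j) (ζ ^ (i * j)) = 0
      rw [← map_sum]
      have hne : ζ ^ j ≠ 1 := hζ.pow_ne_one_of_pos_of_lt hj0 (Finset.mem_range.1 hj)
      have h0 : ∑ i ∈ Finset.range o, ζ ^ (i * j) = 0 := by
        rw [Finset.sum_congr rfl fun i _ => show ζ ^ (i * j) = (ζ ^ j) ^ i by
          rw [mul_comm, pow_mul]]
        rw [geom_sum_eq hne, ← pow_mul, mul_comm, pow_mul, hζ.pow_eq_one, one_pow, sub_self,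
          zero_div]
      rw [h0]
      exact map_zero _
  have hsE : ∀ i, single s (1 : ℂ) * E i = (ζ ^ i)⁻¹ • E i := fun i => by
    have h0 : ζ ^ i ≠ 0 := pow_ne_zero _ (hζ.ne_zero ho0.ne')
    have h1 : single s (1 : ℂ) = (ζ ^ i)⁻¹ • X i := by
      simp only [X, MonoidAlgebra.smul_single, smul_eq_mul, inv_mul_cancel₀ h0]
    simp only [E, h1, smul_mul_assoc, mul_smul_comm, hXG, smul_smul, mul_comm]
  refine ⟨o, fun i => (ζ ^ i)⁻¹, E, fun i => ⟨hEint i, hEE i⟩, ?_⟩
  simp only [← hsE, ← Finset.mul_sum, hsum, mul_one]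

/-- The evaluations at the classes. -/
noncomputable def evals : (RC K p → ℂ) →ₗ[ℂ] (Cls K hM → ℂ) where
  toFun f := fun c => evalChar (ext p f) (pi hM c)
  map_add' f f' := by
    haveI := Fintype.ofFinite K
    funext c
    simp [evalChar_eq_sum, mul_add, Finset.sum_add_distrib]
  map_smul' a f := by
    haveI := Fintype.ofFinite K
    funext c
    simp [evalChar_eq_sum, Finset.mul_sum, mul_left_comm]

theorem evals_injective : Function.Injective (evals (K := K) hM) := by
  classical
  refine (injective_iff_map_eq_zero _).2 fun f hf => funext fun C => ?_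
  obtain ⟨o, b, E, hE, hs⟩ := single_eq_sum_idem hM C.2
  have h1 : ext p f C.1.out = f C := congrFun (res_ext f) C
  rw [← h1, ← one_mul (ext p f C.1.out), ← evalChar_single, hs, evalChar_sum]
  refine Finset.sum_eq_zero fun i _ => ?_
  obtain ⟨m, hm⟩ := exists_mult hM (hE i).1 (hE i).2
  rw [evalChar_smul, hm _ (isClassFunction_ext f), Finset.sum_eq_zero fun c _ => by
    rw [show evalChar (ext p f) (pi hM c) = 0 from congrFun hf c, mul_zero], mul_zero]

theorem card_cls : Nat.card (Cls K hM) = Nat.card (RC K p) := by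
  refine le_antisymm (card_cls_le hM) ?_
  have h := LinearMap.finrank_le_finrank_of_injective (evals_injective (K := K) hM)
  simpa [Nat.card_eq_fintype_card] using h

theorem evals_surjective : Function.Surjective (evals (K := K) hM) :=
  (LinearMap.injective_iff_surjective_of_finrank_eq_finrank (by
    simpa [Nat.card_eq_fintype_card] using (card_cls (K := K) hM).symm)).1 (evals_injective hM)

/-- The irreducible Brauer character of a class, on the regular classes. -/
noncomputable def ibr (c : Cls K hM) : RC K p → ℂ :=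
  (evals_surjective hM (fun d => haveI := Classical.decEq (Cls K hM); if d = c then 1 else 0)).choose

theorem evalChar_ibr (c d : Cls K hM) [Decidable (d = c)] :
    evalChar (ext p (ibr hM c)) (pi hM d) = if d = c then 1 else 0 := by
  have h := congrFun (evals_surjective (K := K) hM
    (fun d => haveI := Classical.decEq (Cls K hM); if d = c then 1 else 0)).choose_spec d
  rw [show evalChar (ext p (ibr hM c)) (pi hM d) = evals hM (ibr hM c) d from rfl, ibr, h]
  congr!

/-- A class function on a class of idempotents. -/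
theorem evalChar_res (hM : Cfsg.IsPModular p M) {f : K → ℂ} (hf : Cfsg.IsClassFunction K f) {E : MonoidAlgebra ℂ K}
    (hE : IntEl M E) (hid : E * E = E) : evalChar (ext p (res p f)) E = evalChar f E :=
  evalChar_idem_reg hM (isClassFunction_ext _) hf (fun _ hs => ext_res hf hs) hE hid

/-- The decomposition of a class function on the regular elements. -/
theorem eq_sum_ibr {f : K → ℂ} (hf : Cfsg.IsClassFunction K f) :
    res p f = ∑ c, evalChar f (pi hM c) • ibr hM c := by
  classical
  refine evals_injective hM (funext fun d => ?_)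
  rw [map_sum, Finset.sum_apply]
  simp only [map_smul, Pi.smul_apply, smul_eq_mul]
  show evalChar (ext p (res p f)) (pi hM d) = ∑ c, _ * evalChar (ext p (ibr hM c)) (pi hM d)
  simp only [evalChar_ibr, mul_ite, mul_one, mul_zero, Finset.sum_ite_eq, Finset.mem_univ, if_true]
  exact evalChar_res hM hf (intEl_pi hM d) (pi_idem hM d)

/-- The values of an irreducible Brauer character at idempotents are natural numbers. -/
theorem evalChar_ibr_nat (c : Cls K hM) {E : MonoidAlgebra ℂ K} (hE : IntEl M E)
    (hid : E * E = E) : ∃ n : ℕ, evalChar (ext p (ibr hM c)) E = (n : ℂ) := by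
  classical
  obtain ⟨m, hm⟩ := exists_mult hM hE hid
  exact ⟨m c, by
    rw [hm _ (isClassFunction_ext _)]
    simp [evalChar_ibr]⟩

/-- The degree of an irreducible Brauer character is a positive natural number. -/
theorem ibr_one (c : Cls K hM) : ∃ n : ℕ, 0 < n ∧ ext p (ibr hM c) 1 = (n : ℂ) := by
  classical
  have hJ := dec_spec (K := K) hM
  obtain ⟨cl, hcl⟩ : ∃ cl : dec K hM → Cls K hM, ∀ q, cl q = Quotient.mk (setoid K hM) q :=
    ⟨_, fun _ => rfl⟩
  refine ⟨(Finset.univ.filter fun q => cl q = c).card, Finset.card_pos.2 ⟨mem' hM c, ?_⟩, ?_⟩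
  · refine Finset.mem_filter.2 ⟨Finset.mem_univ _, ?_⟩
    rw [hcl]
    exact Quotient.out_eq (s := setoid K hM) c
  have e : (1 : MonoidAlgebra ℂ K) = ∑ q : dec K hM, ((q : alg hM K)).1 := by
    rw [Finset.sum_coe_sort (dec K hM) fun q : alg hM K => q.1]
    have h := congrArg Subtype.val hJ.sum
    rw [AddSubmonoidClass.coe_finsetSum] at h
    exact h.symm
  rw [← one_mul (ext p (ibr hM c) 1), ← evalChar_single, ← MonoidAlgebra.one_def, e, evalChar_sum,
    Finset.card_eq_sum_ones, Finset.sum_filter, Nat.cast_sum]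
  refine Finset.sum_congr rfl fun q _ => ?_
  have h : evalChar (ext p (ibr hM c)) ((q : alg hM K)).1 =
      evalChar (ext p (ibr hM c)) (pi hM (cl q)) := by
    refine evalChar_equiv hM (isClassFunction_ext _) ?_
    rw [hcl]
    exact Quotient.exact (s := setoid K hM)
      (Quotient.out_eq (s := setoid K hM) (Quotient.mk (setoid K hM) q)).symm
  rw [h, evalChar_ibr]
  split <;> simp

end Cfsg.Agent.Blocks.BrauerChar
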