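import Mathlib
import Cfsg.Agent.Lib.Blocks.BrauerChar.Basic
import Cfsg.Agent.BlockCharsA.RegularPart
import Cfsg.Agent.Lib.Characters.Artin

/-!
# Lifting functions on the regular classes through the regular part

A function on the regular classes whose values at integral idempotents are integers becomes a
generalized character when composed with the regular part.
-/

set_option linter.style.haveILetI false
set_option linter.unusedSectionVars false

namespace Cfsg.Agent.Blocks.BrauerChar

open Cfsg.Agent.Blocks Cfsg.Agent.Characters Cfsg.Agent.Characters.Artin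
open MonoidAlgebra
open scoped ComplexConjugate

universe u

variable {K : Type u} [Group K] [Finite K] {p : ℕ} {M : Ideal Cfsg.AlgInt}

/-- An exponent giving the `p`-regular parts. -/
theorem exists_regExp (hp : p.Prime) {n : ℕ} (hn : n ≠ 0) :
    ∃ m : ℕ, p ^ n.factorization p ∣ m ∧ m ≡ 1 [MOD n / p ^ n.factorization p] := by
  have hcop : Nat.Coprime (p ^ n.factorization p) (n / p ^ n.factorization p) :=
    Nat.Coprime.pow_left _ ((hp.coprime_iff_not_dvd).2 (Nat.not_dvd_ordCompl hp hn))
  obtain ⟨m, h0, h1⟩ := Nat.chineseRemainder hcop 0 1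
  exact ⟨m, Nat.modEq_zero_iff_dvd.1 h0, h1⟩

open scoped Classical in
/-- The exponent. -/
noncomputable def regExp (p n : ℕ) : ℕ :=
  if h : p.Prime ∧ n ≠ 0 then (exists_regExp h.1 h.2).choose else 0

theorem regExp_spec (hp : p.Prime) {n : ℕ} (hn : n ≠ 0) :
    p ^ n.factorization p ∣ regExp p n ∧ regExp p n ≡ 1 [MOD n / p ^ n.factorization p] := by
  rw [regExp, dif_pos ⟨hp, hn⟩]
  exact (exists_regExp hp hn).choose_spec

theorem pow_regExp_reg (hp : p.Prime) {g : K} (hg : ¬ p ∣ orderOf g) :
    g ^ regExp p (Nat.card K) = g := by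
  have hn := (Nat.card_pos (α := K)).ne'
  have hd : orderOf g ∣ Nat.card K / p ^ (Nat.card K).factorization p :=
    (Nat.Coprime.pow_right _ ((hp.coprime_iff_not_dvd).2 hg).symm).dvd_of_dvd_mul_left
      (by rw [Nat.ordProj_mul_ordCompl_eq_self]; exact orderOf_dvd_natCard g)
  conv_rhs => rw [← pow_one g]
  exact pow_eq_pow_iff_modEq.2 ((regExp_spec hp hn).2.of_dvd hd)

theorem pow_regExp_part (hp : p.Prime) {u : K} (hu : ∃ k, orderOf u = p ^ k) :
    u ^ regExp p (Nat.card K) = 1 := by
  have hn := (Nat.card_pos (α := K)).ne'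
  obtain ⟨k, hk⟩ := hu
  refine orderOf_dvd_iff_pow_eq_one.1 ((dvd_trans ?_ (regExp_spec hp hn).1))
  rw [hk]
  exact pow_dvd_pow p ((hp.pow_dvd_iff_le_factorization hn).1 (hk ▸ orderOf_dvd_natCard u))

theorem pow_regExp_regular (hp : p.Prime) (g : K) :
    ¬ p ∣ orderOf (g ^ regExp p (Nat.card K)) := by
  have hn := (Nat.card_pos (α := K)).ne'
  intro h
  refine Nat.not_dvd_ordCompl hp hn (h.trans (orderOf_dvd_of_pow_eq_one ?_))
  obtain ⟨j, hj⟩ := (regExp_spec hp hn).1
  rw [hj, ← pow_mul, mul_comm, ← mul_assoc, mul_comm (Nat.card K / _),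
    Nat.ordProj_mul_ordCompl_eq_self, pow_mul, pow_card_eq_one', one_pow]

/-- A function on the regular classes, composed with the regular part. -/
noncomputable def lft (p : ℕ) (f : RC K p → ℂ) : K → ℂ :=
  fun g => ext p f (g ^ regExp p (Nat.card K))

theorem lft_reg (hp : p.Prime) (f : RC K p → ℂ) {g : K} (hg : ¬ p ∣ orderOf g) :
    lft p f g = ext p f g := by
  rw [lft, pow_regExp_reg hp hg]

theorem isClassFunction_lft (f : RC K p → ℂ) : Cfsg.IsClassFunction K (lft p f) := fun g a => by
  rw [lft, lft, conj_pow, isClassFunction_ext]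

theorem res_lft (hp : p.Prime) (f : RC K p → ℂ) : res p (lft p f) = f := by
  refine Eq.trans (funext fun C => ?_) (res_ext f)
  exact lft_reg hp f C.2

open scoped Classical in
theorem sum_conj_linear {Q : Type*} [Group Q] [Fintype Q] (lam : Q →* ℂ) :
    ∑ v : Q, conj (lam v) = if ∀ v, lam v = 1 then (Nat.card Q : ℂ) else 0 := by
  split
  · next h => simp [h, Nat.card_eq_fintype_card]
  · next h =>
    push Not at h
    obtain ⟨w, hw⟩ := h
    have e : conj (lam w) * ∑ v : Q, conj (lam v) = ∑ v : Q, conj (lam v) := by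
      rw [Finset.mul_sum]
      exact Fintype.sum_equiv (Equiv.mulLeft w) _ _ fun v => by
        rw [Equiv.coe_mulLeft, map_mul, map_mul]
    by_contra hne
    refine hw ((starRingEnd ℂ).injective ?_)
    rw [map_one]
    exact mul_right_cancel₀ hne (e.trans (one_mul _).symm)

/-- The inner product with a linear character of an elementary subgroup. -/
theorem inner_elementary (hM : Cfsg.IsPModular p M) (f : RC K p → ℂ)
    (hf : ∀ E : MonoidAlgebra ℂ K, IntEl M E → E * E = E → ∃ z : ℤ, evalChar (ext p f) E = (z : ℂ))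
    {E : Subgroup K} [Fintype E] {q : ℕ} (hq : q.Prime) (hE : Cfsg.IsElementary q E)
    (lam : E →* ℂˣ) :
    ∃ z : ℤ, Cfsg.classInner (fun e : E => lft p f e) (fun e => (lam e : ℂ)) = (z : ℂ) := by
  classical
  haveI := fact_prime_of_pm hM
  haveI := Fintype.ofFinite K
  haveI := isNilpotent_of_isElementary hq hE
  obtain ⟨R, hRn, hR, t, ht, -⟩ := BlockCharsA.RegularPart.exists_regular_subgroup (G := E) hM.1 hq hE
  obtain ⟨P⟩ : Nonempty (Sylow p E) := inferInstance
  have hPn : (P : Subgroup E).Normal :=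
    P.normal_of_normalizerCondition Group.normalizerCondition_of_isNilpotent
  haveI := Fintype.ofFinite R
  haveI := Fintype.ofFinite (P : Subgroup E)
  have hPel : ∀ u : (P : Subgroup E), ∃ k, orderOf ((u : E) : K) = p ^ k := fun u => by
    obtain ⟨k, hk⟩ := IsPGroup.iff_orderOf.1 P.isPGroup' u
    exact ⟨k, by rw [Subgroup.orderOf_coe, Subgroup.orderOf_coe, hk]⟩
  have hdisj : Disjoint R (P : Subgroup E) := by
    rw [Subgroup.disjoint_def]
    intro x hxR hxP
    obtain ⟨k, hk⟩ := IsPGroup.iff_orderOf.1 P.isPGroup' ⟨x, hxP⟩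
    rw [Subgroup.orderOf_mk] at hk
    rcases k with _ | k
    · rwa [pow_zero, orderOf_eq_one_iff] at hk
    · exact absurd (hk ▸ dvd_pow_self p (Nat.succ_ne_zero k)) ((hR x).1 hxR)
  have hRp : ¬ p ∣ Nat.card R := fun h => by
    obtain ⟨x, hx⟩ := exists_prime_orderOf_dvd_card' (G := R) p h
    exact (hR (x : E)).1 x.2 (by rw [Subgroup.orderOf_coe, hx])
  have hcard : Nat.card R * Nat.card (P : Subgroup E) = Nat.card E := by
    have h1 := R.card_mul_index
    rw [ht] at h1
    rw [P.card_eq_multiplicity, ← h1]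
    congr 2
    rw [Nat.factorization_mul (Nat.card_pos (α := R)).ne' (pow_ne_zero _ hM.1.ne_zero),
      Finsupp.add_apply, Nat.factorization_eq_zero_of_not_dvd hRp, hM.1.factorization_pow,
      Finsupp.single_eq_same, zero_add]
  have hbij : Function.Bijective fun x : R × (P : Subgroup E) => (x.1 : E) * (x.2 : E) := by
    rw [Fintype.bijective_iff_injective_and_card]
    refine ⟨fun x y h => ?_, ?_⟩
    · have h' : (y.1 : E)⁻¹ * x.1 = (y.2 : E) * (x.2 : E)⁻¹ := by
        have h2 : (x.1 : E) * x.2 = y.1 * y.2 := h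
        rw [eq_mul_inv_iff_mul_eq, mul_assoc, h2, inv_mul_cancel_left]
      have h1 := Subgroup.disjoint_def.1 hdisj (mul_mem (inv_mem y.1.2) x.1.2)
        (h' ▸ mul_mem y.2.2 (inv_mem x.2.2))
      refine Prod.ext (Subtype.ext (inv_mul_eq_one.1 h1).symm) (Subtype.ext ?_)
      rw [h', mul_inv_eq_one] at h1
      exact h1.symm
    · rw [Fintype.card_prod, ← Nat.card_eq_fintype_card, ← Nat.card_eq_fintype_card,
        ← Nat.card_eq_fintype_card, hcard]
  let ν : E →* ℂ := (Units.coeHom ℂ).comp lam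
  have hF : ∀ (r : R) (u : (P : Subgroup E)),
      lft p f (((r : E) * (u : E) : E) : K) = ext p f ((r : E) : K) := fun r u => by
    have hcomm : Commute ((r : E) : K) ((u : E) : K) :=
      (Subgroup.commute_of_normal_of_disjoint R P hRn hPn hdisj r u r.2 u.2).map E.subtype
    rw [lft, Subgroup.coe_mul, hcomm.mul_pow, pow_regExp_part hM.1 (hPel u), mul_one,
      pow_regExp_reg hM.1 (by rw [Subgroup.orderOf_coe]; exact (hR _).1 r.2)]
  -- the idempotent of the linear character of the regular part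
  set Ξ : MonoidAlgebra ℂ K :=
    (Nat.card R : ℂ)⁻¹ • ∑ r : R, single ((r : E) : K) (conj (ν r)) with hΞ
  have hX : ∀ r s : R, single ((r : E) : K) (conj (ν r)) * single ((s : E) : K) (conj (ν s)) =
      single (((r * s : R) : E) : K) (conj (ν ((r * s : R) : E))) := fun r s => by
    rw [single_mul_single, ← map_mul, ← map_mul, Subgroup.coe_mul, Subgroup.coe_mul]
  have hint : IntEl M Ξ := intEl_smul hM (ring_inv_natCast hM hRp) (intEl_sum hM fun r _ => by
    refine intEl_single hM _ (ring_of_isIntegral hM (isIntegral_of_pow_eq_one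
      (Nat.card_pos (α := E)).ne' ?_))
    rw [← map_pow, ← map_pow, pow_card_eq_one', map_one, map_one])
  have hid : Ξ * Ξ = Ξ := by
    have e : ∀ r : R, ∑ s : R, single ((r : E) : K) (conj (ν r)) *
        single ((s : E) : K) (conj (ν s)) = ∑ s : R, single ((s : E) : K) (conj (ν s)) :=
      fun r => Fintype.sum_equiv (Equiv.mulLeft r) _ _ fun s => hX r s
    rw [hΞ, smul_mul_smul_comm, Finset.sum_mul]
    simp only [Finset.mul_sum, e, Finset.sum_const, Finset.card_univ,
      ← Nat.card_eq_fintype_card, ← Nat.cast_smul_eq_nsmul ℂ, smul_smul]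
    congr 1
    have : (Nat.card R : ℂ) ≠ 0 := natCard_ne_zero
    field_simp
  obtain ⟨z, hz⟩ := hf Ξ hint hid
  have hzsum : ∑ r : R, ext p f ((r : E) : K) * conj (ν r) = (Nat.card R : ℂ) * z := by
    rw [← hz, hΞ, evalChar_smul, evalChar_sum, ← mul_assoc, mul_inv_cancel₀ natCard_ne_zero,
      one_mul]
    exact Finset.sum_congr rfl fun r _ => by rw [evalChar_single, mul_comm]
  refine ⟨if ∀ u : (P : Subgroup E), ν u = 1 then z else 0, ?_⟩
  rw [classInner_def]
  show _ * ∑ e : E, lft p f (e : K) * conj (ν e) = _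
  rw [← Fintype.sum_bijective _ hbij
    (fun x : R × (P : Subgroup E) =>
      (ext p f (((x.1 : E) : K)) * conj (ν x.1)) * conj (ν x.2)) _
    fun x => by rw [hF, map_mul, map_mul]; ring]
  rw [Fintype.sum_prod_type]
  dsimp only
  rw [← Finset.sum_mul_sum, hzsum,
    show ∑ u : (P : Subgroup E), conj (ν u) =
      ∑ u : (P : Subgroup E), conj ((ν.comp (P : Subgroup E).subtype) u) from rfl,
    sum_conj_linear, ← hcard, Nat.cast_mul]
  have h1 : (Nat.card R : ℂ) ≠ 0 := natCard_ne_zero
  have h2 : (Nat.card (P : Subgroup E) : ℂ) ≠ 0 := natCard_ne_zero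
  by_cases h : ∀ u : (P : Subgroup E), ν u = 1
  · rw [if_pos h, if_pos (show ∀ v, (ν.comp (P : Subgroup E).subtype) v = 1 from h)]
    field_simp
  · rw [if_neg h, if_neg (show ¬ ∀ v, (ν.comp (P : Subgroup E).subtype) v = 1 from h), mul_zero,
      mul_zero, Int.cast_zero]

/-- The lift is a generalized character. -/
theorem isGen_lft [Fintype K] (hM : Cfsg.IsPModular p M) (f : RC K p → ℂ)
    (hf : ∀ E : MonoidAlgebra ℂ K, IntEl M E → E * E = E →
      ∃ z : ℤ, evalChar (ext p f) E = (z : ℂ)) :
    Cfsg.IsGeneralizedCharacter K (lft p f) := by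
  classical
  refine isGen_of_classInner_int (isClassFunction_lft f) fun χ hχ => ?_
  suffices ∀ φ ∈ linSpan (fun E : Subgroup K => ∃ q : ℕ, q.Prime ∧ Cfsg.IsElementary q E),
      ∃ z : ℤ, Cfsg.classInner (lft p f) φ = (z : ℂ) from
    this χ (brauer_induction (isCharacter_of_isIrr hχ))
  intro φ hφ
  induction hφ using AddSubgroup.closure_induction with
  | mem φ hφ =>
    obtain ⟨E, lam, ⟨q, hq, hE⟩, rfl⟩ := hφ
    haveI := Fintype.ofFinite E
    rw [frobenius_reciprocity' E _ (isClassFunction_lft f)]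
    exact inner_elementary hM f hf hq hE lam
  | zero => exact ⟨0, by simp [classInner_def]⟩
  | add a b _ _ iha ihb =>
    obtain ⟨x, hx⟩ := iha
    obtain ⟨y, hy⟩ := ihb
    exact ⟨x + y, by
      rw [Int.cast_add, ← hx, ← hy]
      simp [classInner_def, mul_add, Finset.sum_add_distrib]⟩
  | neg a _ iha =>
    obtain ⟨x, hx⟩ := iha
    exact ⟨-x, by rw [Int.cast_neg, ← hx]; simp [classInner_def]⟩

end Cfsg.Agent.Blocks.BrauerChar
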