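import Mathlib
import Cfsg.Prelude.Def_BlockRank
import Cfsg.Agent.Lib.Blocks.BrauerChar.Lift
import Cfsg.Agent.BlockCharsA.CyclicDefect.Parts
import Cfsg.Agent.BlockCharsA.DegreeSum
import Cfsg.Agent.Lib.Blocks.SectionNorm

/-!
# Classes of primitive idempotents in a union of blocks

A central idempotent fixes or kills each primitive idempotent; the classes it fixes count the
regular rank, and their Brauer characters are integral combinations of its characters.
-/

set_option linter.style.haveILetI false
set_option linter.unusedSectionVars false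

namespace Cfsg.Agent.Blocks.BrauerChar

open Cfsg.Agent.Blocks Cfsg.Agent.Characters Cfsg.Agent.Blocks.Star
open MonoidAlgebra
open scoped ComplexConjugate

universe u

variable {K : Type u} [Group K] [Finite K] {p : ℕ} {M : Ideal Cfsg.AlgInt}
  (hM : Cfsg.IsPModular p M) {A : Set (Cfsg.IrrCharacter K)}

/-- The class lies in the union of blocks. -/
def InA (A : Set (Cfsg.IrrCharacter K)) (c : Cls K hM) : Prop :=
  blockIdem A * pi hM c = pi hM c

theorem mul_pi_cases (hA : IntEl M (blockIdem A)) (c : Cls K hM) :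
    blockIdem A * pi hM c = pi hM c ∨ blockIdem A * pi hM c = 0 := by
  have hq := mem'_prim hM c
  set q : alg hM K := (mem' hM c : alg hM K)
  have hcomm : Commute (mkA hM hA) q := Subtype.ext (central_commute (central_blockIdem A) q.1).eq
  have hid : mkA hM hA * mkA hM hA = mkA hM hA := Subtype.ext (blockIdem_mul_self A)
  rcases hq.min (mkA hM hA * q)
    (by rw [mul_assoc, ← mul_assoc q (mkA hM hA), ← hcomm.eq, mul_assoc (mkA hM hA), hq.idem,
      ← mul_assoc, hid])
    (by rw [← mul_assoc, ← hcomm.eq, mul_assoc, hq.idem])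
    (by rw [mul_assoc, hq.idem]) with h | h
  · exact Or.inr (congrArg Subtype.val h)
  · exact Or.inl (congrArg Subtype.val h)

theorem mul_pi_of_not (hA : IntEl M (blockIdem A)) {c : Cls K hM} (hc : ¬ InA hM A c) :
    blockIdem A * pi hM c = 0 :=
  (mul_pi_cases hM hA c).resolve_left hc

theorem evalChar_zero_el (f : K → ℂ) : evalChar f (0 : MonoidAlgebra ℂ K) = 0 := by
  haveI := Fintype.ofFinite K
  simp [evalChar_eq_sum]

/-- The value at the product with an idempotent of a union of blocks, expanded. -/
theorem evalChar_mul_expand [Fintype K] [Fintype (Cfsg.IrrCharacter K)]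
    (A : Set (Cfsg.IrrCharacter K)) [DecidablePred (· ∈ A)] {F : K → ℂ}
    (hF : Cfsg.IsClassFunction K F) (z : MonoidAlgebra ℂ K) :
    evalChar F (blockIdem A * z) = ∑ η ∈ Finset.univ.filter (· ∈ A),
      Cfsg.classInner F (η : K → ℂ) * evalChar (η : K → ℂ) z := by
  rw [evalChar_blockIdem_mul A hF, ← BlockCharsA.CyclicDefect.evalChar_sum_fun]
  congr 1
  funext k
  rw [ZStar.Principal.blockPart_eq_sum_mul, ZStar.Principal.finsum_mem_eq_sum_filter]
  congr!

/-- The decomposition number. -/
noncomputable def rk (c : Cls K hM) (η : Cfsg.IrrCharacter K) : ℕ :=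
  (evalChar_idem_nat (irr_isCharacter η) (pi_idem hM c)).choose

theorem evalChar_pi (c : Cls K hM) (η : Cfsg.IrrCharacter K) :
    evalChar (η : K → ℂ) (pi hM c) = (rk hM c η : ℂ) :=
  (evalChar_idem_nat (irr_isCharacter η) (pi_idem hM c)).choose_spec

theorem rk_eq_zero (hA : IntEl M (blockIdem A)) {c : Cls K hM} {η : Cfsg.IrrCharacter K}
    (h : ¬ (η ∈ A ↔ InA hM A c)) : rk hM c η = 0 := by
  classical
  haveI := Fintype.ofFinite K
  have hpart : evalChar (η : K → ℂ) (blockIdem A * pi hM c) =
      if η ∈ A then evalChar (η : K → ℂ) (pi hM c) else 0 := by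
    rw [evalChar_blockIdem_mul A (irr_isClassFunction η),
      show Cfsg.blockPart A (η : K → ℂ) = fun y => if η ∈ A then (η : K → ℂ) y else 0 from
        funext fun y => blockPart_irr A η y]
    by_cases hη : η ∈ A
    · simp [hη]
    · simp [hη, evalChar_eq_sum]
  rw [← Nat.cast_eq_zero (R := ℂ), ← evalChar_pi]
  by_cases hc : InA hM A c
  · have hη : η ∉ A := fun hη => h (iff_of_true hη hc)
    rw [show blockIdem A * pi hM c = pi hM c from hc, if_neg hη] at hpart
    exact hpart
  · have hη : η ∈ A := by_contra fun hη => h (iff_of_false hη hc)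
    rw [mul_pi_of_not hM hA hc, if_pos hη, evalChar_zero_el] at hpart
    exact hpart.symm

theorem res_irr (η : Cfsg.IrrCharacter K) :
    res p (η : K → ℂ) = ∑ c, (rk hM c η : ℂ) • ibr hM c := by
  rw [eq_sum_ibr hM (irr_isClassFunction η)]
  simp only [evalChar_pi]

/-- The degree of an irreducible Brauer character. -/
noncomputable def deg (c : Cls K hM) : ℕ := (ibr_one hM c).choose

theorem deg_pos (c : Cls K hM) : 0 < deg hM c := (ibr_one hM c).choose_spec.1

theorem ext_ibr_one (c : Cls K hM) : ext p (ibr hM c) 1 = (deg hM c : ℂ) :=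
  (ibr_one hM c).choose_spec.2

theorem charDegree_eq_sum (η : Cfsg.IrrCharacter K) :
    Cfsg.charDegree (η : K → ℂ) = ∑ c, rk hM c η * deg hM c := by
  apply Nat.cast_injective (R := ℂ)
  rw [BlockCharsA.DegreeSum.deg_cast, Nat.cast_sum,
    ← ext_res (p := p) (irr_isClassFunction η) (g := 1) (by simp [hM.1.ne_one]), res_irr hM,
    map_sum, Finset.sum_apply]
  simp only [map_smul, Pi.smul_apply, smul_eq_mul, ext_ibr_one, Nat.cast_mul]

/-- The generalized character lifting an irreducible Brauer character. -/
noncomputable def lift (c : Cls K hM) : K → ℂ := lft p (ibr hM c)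

theorem isClassFunction_lift (c : Cls K hM) : Cfsg.IsClassFunction K (lift hM c) :=
  isClassFunction_lft _

theorem isGen_lift [Fintype K] (c : Cls K hM) : Cfsg.IsGeneralizedCharacter K (lift hM c) :=
  isGen_lft hM _ fun _ hE hid => by
    obtain ⟨n, hn⟩ := evalChar_ibr_nat hM c hE hid
    exact ⟨n, by rw [hn, Int.cast_natCast]⟩

theorem evalChar_lift (c : Cls K hM) {E : MonoidAlgebra ℂ K} (hE : IntEl M E) (hid : E * E = E) :
    evalChar (lift hM c) E = evalChar (ext p (ibr hM c)) E :=
  evalChar_idem_reg hM (isClassFunction_lift hM c) (isClassFunction_ext _)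
    (fun _ hs => lft_reg hM.1 _ hs) hE hid

/-- An irreducible Brauer character is a combination of the characters of its blocks. -/
theorem ibr_eq_sum (hA : IntEl M (blockIdem A)) [Fintype K] [Fintype (Cfsg.IrrCharacter K)]
    [DecidablePred (· ∈ A)]
    {c : Cls K hM} (hc : InA hM A c) :
    ibr hM c = ∑ η ∈ Finset.univ.filter (· ∈ A),
      Cfsg.classInner (lift hM c) (η : K → ℂ) • res p (η : K → ℂ) := by
  classical
  refine evals_injective hM (funext fun d => ?_)
  rw [map_sum, Finset.sum_apply]
  simp only [map_smul, Pi.smul_apply, smul_eq_mul]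
  show evalChar (ext p (ibr hM c)) (pi hM d) = ∑ η ∈ Finset.univ.filter (· ∈ A),
    Cfsg.classInner (lift hM c) (η : K → ℂ) *
      evalChar (ext p (res p (η : K → ℂ))) (pi hM d)
  simp only [fun η : Cfsg.IrrCharacter K =>
    evalChar_res hM (irr_isClassFunction η) (intEl_pi hM d) (pi_idem hM d)]
  rw [← evalChar_mul_expand A (isClassFunction_lift hM c)]
  by_cases hdc : d = c
  · subst hdc
    rw [show blockIdem A * pi hM d = pi hM d from hc,
      evalChar_lift hM d (intEl_pi hM d) (pi_idem hM d)]
  · rw [evalChar_ibr, if_neg hdc]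
    rcases mul_pi_cases hM hA d with h | h <;> rw [h]
    · rw [evalChar_lift hM c (intEl_pi hM d) (pi_idem hM d), evalChar_ibr, if_neg hdc]
    · exact (evalChar_zero_el _).symm

theorem linearIndependent_ibr : LinearIndependent ℂ (ibr (K := K) hM) := by
  classical
  rw [Fintype.linearIndependent_iff]
  intro a ha d
  have h := congrArg (fun f => evals hM f d) ha
  simp only [map_sum, map_smul, Finset.sum_apply, Pi.smul_apply, smul_eq_mul, map_zero,
    Pi.zero_apply] at h
  rw [Finset.sum_congr rfl fun c _ =>
    show a c * evals hM (ibr hM c) d = a c * (if d = c then 1 else 0) by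
      rw [← evalChar_ibr hM c d]; rfl] at h
  simpa using h

include hM in
/-- The classes in a union of blocks count its regular rank. -/
theorem blockRank_eq (hA : IntEl M (blockIdem A)) :
    Cfsg.blockRank p A = Nat.card {c : Cls K hM // InA hM A c} := by
  classical
  haveI := Fintype.ofFinite K
  haveI := Fintype.ofFinite (Cfsg.IrrCharacter K)
  have hinj : Function.Injective (ext (K := K) p) :=
    Function.LeftInverse.injective (g := res p) res_ext
  have hspan : Submodule.span ℂ
      ((fun η : Cfsg.IrrCharacter K => res p (η : K → ℂ)) '' A) =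
      Submodule.span ℂ (Set.range fun c : {c : Cls K hM // InA hM A c} => ibr hM c.1) := by
    refine le_antisymm (Submodule.span_le.2 ?_) (Submodule.span_le.2 ?_)
    · rintro _ ⟨η, hη, rfl⟩
      show res p (η : K → ℂ) ∈ _
      rw [res_irr hM]
      refine Submodule.sum_mem _ fun c _ => ?_
      by_cases hc : InA hM A c
      · exact Submodule.smul_mem _ _ (Submodule.subset_span ⟨⟨c, hc⟩, rfl⟩)
      · rw [rk_eq_zero hM hA fun h => hc (h.1 hη), Nat.cast_zero, zero_smul]
        exact Submodule.zero_mem _
    · rintro _ ⟨⟨c, hc⟩, rfl⟩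
      show ibr hM c ∈ _
      rw [ibr_eq_sum hM hA hc]
      exact Submodule.sum_mem _ fun η hη => Submodule.smul_mem _ _
        (Submodule.subset_span ⟨η, (Finset.mem_filter.1 hη).2, rfl⟩)
  have himg : (fun η : Cfsg.IrrCharacter K => Cfsg.pRegularPart p (η : K → ℂ)) '' A =
      ext p '' ((fun η : Cfsg.IrrCharacter K => res p (η : K → ℂ)) '' A) := by
    rw [← Set.image_comp]
    exact Set.image_congr fun η _ => pRegularPart_eq (irr_isClassFunction η)
  rw [Cfsg.blockRank, himg, ← Submodule.map_span, LinearEquiv.finrank_eq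
    (Submodule.equivMapOfInjective _ hinj _).symm, hspan,
    Nat.card_eq_fintype_card]
  exact finrank_span_eq_card ((linearIndependent_ibr hM).comp _ Subtype.val_injective)

/-- A column of decomposition numbers vanishes on the singular elements. -/
theorem sum_rk_singular (hA : IntEl M (blockIdem A)) [Fintype (Cfsg.IrrCharacter K)]
    [DecidablePred (· ∈ A)] (c : Cls K hM) {x : K} (hx : p ∣ orderOf x) :
    ∑ η ∈ Finset.univ.filter (· ∈ A), (rk hM c η : ℂ) * (η : K → ℂ) x = 0 := by
  haveI := Fintype.ofFinite K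
  have e : ∑ η ∈ Finset.univ.filter (· ∈ A), (rk hM c η : ℂ) * (η : K → ℂ) x =
      evalChar (fun y => ∑ η ∈ Finset.univ.filter (· ∈ A), (η : K → ℂ) x * (η : K → ℂ) y)
        (pi hM c) := by
    rw [BlockCharsA.CyclicDefect.evalChar_sum_fun]
    exact Finset.sum_congr rfl fun η _ => by rw [evalChar_pi, mul_comm]
  have hcl : Cfsg.IsClassFunction K
      fun y => ∑ η ∈ Finset.univ.filter (· ∈ A), (η : K → ℂ) x * (η : K → ℂ) y :=
    fun y a => Finset.sum_congr rfl fun η _ => by rw [irr_isClassFunction η y a]
  rw [e, evalChar_idem_reg (f' := fun _ => 0) hM hcl (fun _ _ => rfl) (fun y hy => ?_)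
    (intEl_pi hM c) (pi_idem hM c)]
  · simp [evalChar_eq_sum]
  · have h := sum_block_reg_sing hM hA hy (y := x⁻¹) (by rwa [orderOf_inv])
    rw [ZStar.Principal.finsum_mem_eq_sum_filter] at h
    refine Eq.trans ?_ h
    refine Finset.sum_congr (by congr!) fun η _ => ?_
    rw [← char_inv (irr_isCharacter η) x⁻¹, inv_inv, mul_comm]

end Cfsg.Agent.Blocks.BrauerChar
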