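import Mathlib
import Cfsg.Agent.Lib.Blocks.BrauerChar.Blocks
import Cfsg.Agent.Lib.Blocks.SectionNorm

/-!
# The trace of an automorphism on the Brauer characters of a union of blocks
-/

set_option linter.style.haveILetI false
set_option linter.unusedSectionVars false

namespace Cfsg.Agent.Blocks.BrauerChar

open Cfsg.Agent.Blocks Cfsg.Agent.Characters Cfsg.Agent.Blocks.Star
open MonoidAlgebra
open scoped ComplexConjugate

universe u

variable {K : Type u} [Group K] [Finite K] {p : ℕ} {M : Ideal Cfsg.AlgInt}
  {A : Set (Cfsg.IrrCharacter K)}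

theorem intEl_domCongr (σ : K ≃* K) {z : MonoidAlgebra ℂ K} (hz : IntEl M z) :
    IntEl M (domCongr ℂ ℂ σ z) := fun g => by
  rw [coeff_domCongr]
  exact hz _

open scoped Classical in
/-- The trace of an automorphism on the regular part of the kernel is a natural number. -/
theorem exists_trace_kernel [Fintype K] (hM : Cfsg.IsPModular p M) (hA : IntEl M (blockIdem A))
    (σ : K ≃* K) :
    ∃ N : ℕ, ∑ s : K, (if ¬ p ∣ orderOf s then blockKernelAt A (σ s) s else 0) = (N : ℂ) := by
  haveI := Fintype.ofFinite (Cfsg.IrrCharacter K)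
  let F : Cls K hM → K → ℂ := fun c => ext p (ibr hM c) ∘ σ
  have hF : ∀ c, Cfsg.IsClassFunction K (F c) := fun c s a => by
    simp only [F, Function.comp_apply, map_mul, map_inv]
    exact isClassFunction_ext _ _ _
  have hnat : ∀ c, ∃ n : ℕ, evalChar (F c) (blockIdem A * pi hM c) = (n : ℂ) := fun c => by
    rcases mul_pi_cases hM hA c with h | h <;> rw [h]
    · rw [show F c = ext p (ibr hM c) ∘ σ from rfl, ← BlockCharsA.CyclicDefect.evalChar_domCongr]
      exact evalChar_ibr_nat hM c (intEl_domCongr σ (intEl_pi hM c))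
        (by rw [← map_mul, pi_idem])
    · exact ⟨0, by rw [evalChar_zero_el, Nat.cast_zero]⟩
  choose n hn using hnat
  refine ⟨∑ c, n c, ?_⟩
  rw [Nat.cast_sum]
  simp only [← hn, evalChar_mul_expand A (hF _), evalChar_pi]
  calc ∑ s : K, (if ¬ p ∣ orderOf s then blockKernelAt A (σ s) s else 0)
      = ∑ η ∈ Finset.univ.filter (· ∈ A), (Nat.card K : ℂ)⁻¹ *
          ∑ s : K, (if ¬ p ∣ orderOf s then (η : K → ℂ) (σ s) else 0) * conj ((η : K → ℂ) s) := by
        simp only [blockKernelAt_eq_sum, Finset.mul_sum]
        rw [Finset.sum_comm]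
        refine Finset.sum_congr rfl fun s _ => ?_
        by_cases hs : p ∣ orderOf s
        · simp [hs]
        · simp [hs, Finset.sum_filter]
    _ = ∑ η ∈ Finset.univ.filter (· ∈ A), (Nat.card K : ℂ)⁻¹ *
          ∑ s : K, (∑ c, (rk hM c η : ℂ) * F c s) * conj ((η : K → ℂ) s) := by
        refine Finset.sum_congr rfl fun η _ => congrArg _ (Finset.sum_congr rfl fun s _ => ?_)
        congr 1
        have hσ : orderOf (σ s) = orderOf s := σ.orderOf_eq s
        by_cases hs : p ∣ orderOf s
        · rw [if_neg (not_not.2 hs)]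
          exact (Finset.sum_eq_zero fun c _ => by
            simp only [F, Function.comp_apply, ext_sing _ (hσ ▸ hs), mul_zero]).symm
        · rw [if_pos hs, ← ext_res (irr_isClassFunction η) (g := σ s) (p := p) (hσ ▸ hs),
            res_irr hM, map_sum, Finset.sum_apply]
          simp only [map_smul, Pi.smul_apply, smul_eq_mul, F, Function.comp_apply]
    _ = _ := by
        rw [Finset.sum_comm]
        refine Finset.sum_congr rfl fun η _ => ?_
        simp only [classInner_def, Finset.mul_sum, Finset.sum_mul]
        rw [Finset.sum_comm]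
        exact Finset.sum_congr rfl fun c _ => Finset.sum_congr rfl fun s _ => by ring

end Cfsg.Agent.Blocks.BrauerChar
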