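import Mathlib
import Cfsg.Prelude.Def_BlockRank
import Cfsg.Agent.Lib.Blocks.BrauerChar.Trace
import Cfsg.Agent.BlockCharsA.Rank
import Cfsg.Agent.OddChar.PowTwist

/-!
# Characters fixed by a power map that fixes the regular elements

The fixed characters of a block are counted by the regular rank plus, on every section, a trace
on the Brauer characters of the blocks below, a natural number.
-/

set_option linter.style.haveILetI false
set_option linter.unusedSectionVars false

namespace Cfsg.Agent.Blocks.BrauerChar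

open Cfsg.Agent.Blocks Cfsg.Agent.Characters Cfsg.Agent.BlockCharsA.Rank
open scoped ComplexConjugate

universe u

variable {G : Type u} [Group G] [Finite G] {p : ℕ} {M : Ideal Cfsg.AlgInt}

/-- The product of the values at two points of a section. -/
theorem inner_part (hM : Cfsg.IsPModular p M) {x : G} (hx : ∃ k : ℕ, orderOf x = p ^ k)
    [Fintype G] [Fintype (Cfsg.IrrCharacter G)]
    {S : Set (Cfsg.IrrCharacter (Subgroup.centralizer ({x} : Set G)))}
    (hS : IntEl M (blockIdem S)) {y y' : Subgroup.centralizer ({x} : Set G)}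
    (hy : ¬ p ∣ orderOf y) (hy' : ¬ p ∣ orderOf y') :
    ∑ ζ : Cfsg.IrrCharacter G, Cfsg.blockPart S (ZStar.Principal.shift x (ζ : G → ℂ)) y *
      conj (Cfsg.blockPart S (ZStar.Principal.shift x (ζ : G → ℂ)) y') =
    (Nat.card (Subgroup.centralizer ({x} : Set G)) : ℂ) * blockKernelAt S y y' := by
  classical
  haveI := Fintype.ofFinite (Subgroup.centralizer ({x} : Set G))
  haveI := Fintype.ofFinite (Cfsg.IrrCharacter (Subgroup.centralizer ({x} : Set G)))
  set K := blockKernelAt S y
  set L := blockKernelAt S y'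
  have key : ∑ ζ : Cfsg.IrrCharacter G,
      (∑ c : Subgroup.centralizer ({x} : Set G), K c * (ζ : G → ℂ) (x * (c : G))) *
        conj (∑ d : Subgroup.centralizer ({x} : Set G), L d * (ζ : G → ℂ) (x * (d : G))) =
      ∑ η : Cfsg.IrrCharacter (Subgroup.centralizer ({x} : Set G)),
      (∑ c : Subgroup.centralizer ({x} : Set G),
          K c * (η : Subgroup.centralizer ({x} : Set G) → ℂ) c) *
        conj (∑ d : Subgroup.centralizer ({x} : Set G),
          L d * (η : Subgroup.centralizer ({x} : Set G) → ℂ) d) := by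
    simp only [map_sum, map_mul, Finset.sum_mul, Finset.mul_sum]
    rw [Finset.sum_comm]
    conv_rhs => rw [Finset.sum_comm]
    refine Finset.sum_congr rfl fun c _ => ?_
    rw [Finset.sum_comm]
    conv_rhs => rw [Finset.sum_comm]
    refine Finset.sum_congr rfl fun d _ => ?_
    simp only [fun (c d : Subgroup.centralizer ({x} : Set G)) (a b : ℂ) =>
      mul_mul_mul_comm (K d) a (conj (L c)) b, ← Finset.mul_sum]
    by_cases hcd : p ∣ orderOf c ∨ p ∣ orderOf d
    · rcases hcd with h | h <;>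
        simp [K, L, kernel_sing_right hM hS hy h, kernel_sing_right hM hS hy' h]
    · push Not at hcd
      rw [orthogonality_section hM.1 hx d c hcd.2 hcd.1]
  simp only [← blockPart_eq_kernel, K, L, blockPart_irr] at key
  refine Eq.trans ?_ (key.trans ?_)
  · exact Finset.sum_congr rfl fun ζ _ => rfl
  · show _ = _ * blockKernelAt S y y'
    rw [blockKernelAt_eq_sum, ← mul_assoc, mul_inv_cancel₀ natCard_ne_zero, one_mul]
    exact Finset.sum_congr rfl fun η _ => by split <;> simp

/-- The values of a block at two points of a section. -/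
theorem inner_indSet (hM : Cfsg.IsPModular p M) {x : G} (hx : ∃ k : ℕ, orderOf x = p ^ k)
    {B : Set (Cfsg.IrrCharacter G)} (hB : Cfsg.IsPBlock M B)
    {y y' : Subgroup.centralizer ({x} : Set G)} (hy : ¬ p ∣ orderOf y) (hy' : ¬ p ∣ orderOf y') :
    (Nat.card G : ℂ) * blockKernelAt B (x * (y : G)) (x * (y' : G)) =
      (Nat.card (Subgroup.centralizer ({x} : Set G)) : ℂ) *
        blockKernelAt (indSet M x B) y y' := by
  classical
  haveI := Fintype.ofFinite G
  haveI := Fintype.ofFinite (Cfsg.IrrCharacter G)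
  rw [← inner_part hM hx (intEl_indSet hM x B) hy hy', blockKernelAt_eq_sum, ← mul_assoc,
    mul_inv_cancel₀ natCard_ne_zero, one_mul]
  refine Finset.sum_congr rfl fun ζ _ => ?_
  rw [part_indSet hM hx hB ζ hy, part_indSet hM hx hB ζ hy']
  split <;> simp

open scoped Classical in
/-- The share of the section of `z`. -/
theorem section_share [Fintype G] (hM : Cfsg.IsPModular p M) {B : Set (Cfsg.IrrCharacter G)}
    (hB : Cfsg.IsPBlock M B) {k : ℕ} (hk : k.Coprime (Nat.card G))
    (hfix : ∀ g : G, ¬ p ∣ orderOf g → g ^ k = g) {z : G} (hz : ∃ j : ℕ, orderOf z = p ^ j) :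
    ∃ N : ℕ, (Nat.card G : ℂ) *
      ∑ g ∈ Finset.univ.filter (fun g : G => Cfsg.IsPPart p g z), blockKernelAt B (g ^ k) g =
        (N : ℂ) := by
  haveI := Fintype.ofFinite (Cfsg.IrrCharacter G)
  set C := Subgroup.centralizer ({z} : Set G)
  haveI := Fintype.ofFinite C
  have hzk : ∃ j : ℕ, orderOf (z ^ k) = p ^ j := by
    obtain ⟨j, hj⟩ := hz
    obtain ⟨i, -, hi⟩ := (Nat.dvd_prime_pow hM.1).1 (hj ▸ orderOf_pow_dvd k : orderOf (z ^ k) ∣ p ^ j)
    exact ⟨i, hi⟩
  have hzc : ∀ s : C, Commute z (s : G) := fun s =>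
    Subgroup.mem_centralizer_iff.1 s.2 z rfl
  have hreg : ∀ {s : C}, ¬ p ∣ orderOf s → ¬ p ∣ orderOf (s : G) := fun h => by
    rwa [Subgroup.orderOf_coe]
  have hpow : ∀ s : C, ¬ p ∣ orderOf s → (z * (s : G)) ^ k = z ^ k * (s : G) := fun s hs => by
    rw [(hzc s).mul_pow, hfix _ (hreg hs)]
  have hsum : ∑ g ∈ Finset.univ.filter (fun g : G => Cfsg.IsPPart p g z),
      blockKernelAt B (g ^ k) g =
      ∑ s ∈ Finset.univ.filter (fun s : C => ¬ p ∣ orderOf s),
        blockKernelAt B (z ^ k * (s : G)) (z * (s : G)) := by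
    symm
    refine Finset.sum_bij (fun s _ => z * (s : G)) (fun s hs => ?_)
      (fun s _ t _ h => Subtype.ext (mul_left_cancel h)) (fun g hg => ?_) fun s hs => ?_
    · exact Finset.mem_filter.2 ⟨Finset.mem_univ _,
        ⟨s, rfl, hzc s, hz, hreg (Finset.mem_filter.1 hs).2⟩⟩
    · obtain ⟨y, hy, hzy, -, hyr⟩ := (Finset.mem_filter.1 hg).2
      exact ⟨⟨y, Subgroup.mem_centralizer_singleton_iff.2 hzy.eq.symm⟩,
        Finset.mem_filter.2 ⟨Finset.mem_univ _, by rwa [Subgroup.orderOf_mk]⟩, hy⟩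
    · rw [hpow s (Finset.mem_filter.1 hs).2]
  rw [hsum]
  by_cases hconj : IsConj (z ^ k) z
  · obtain ⟨a, ha⟩ := isConj_iff.1 hconj.symm
    obtain ⟨j, hj⟩ := exists_pow_eq_self_of_coprime (x := z) (n := k)
      (hk.coprime_dvd_right (orderOf_dvd_natCard _))
    have hmem : ∀ s : C, a⁻¹ * (s : G) * a ∈ C := fun s => by
      refine Subgroup.mem_centralizer_singleton_iff.2 ?_
      have h1 := ((hzc s).symm.pow_right k).eq
      rw [← ha] at h1
      calc a⁻¹ * (s : G) * a * z = a⁻¹ * ((s : G) * (a * z * a⁻¹)) * a := by group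
        _ = a⁻¹ * (a * z * a⁻¹ * (s : G)) * a := by rw [h1]
        _ = z * (a⁻¹ * (s : G) * a) := by group
    have hmem' : ∀ s : C, a * (s : G) * a⁻¹ ∈ C := fun s => by
      refine Subgroup.mem_centralizer_singleton_iff.2 (Commute.eq ?_)
      have h1 : Commute (a * (s : G) * a⁻¹) (z ^ k) := by
        rw [← ha]
        exact (hzc s).symm.map (MulAut.conj a).toMonoidHom
      exact hj ▸ h1.pow_right j
    let σ : C ≃* C :=
      { toFun := fun s => ⟨a⁻¹ * (s : G) * a, hmem s⟩
        invFun := fun s => ⟨a * (s : G) * a⁻¹, hmem' s⟩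
        left_inv := fun s => Subtype.ext (by show a * (a⁻¹ * (s : G) * a) * a⁻¹ = s; group)
        right_inv := fun s => Subtype.ext (by show a⁻¹ * (a * (s : G) * a⁻¹) * a = s; group)
        map_mul' := fun s t => Subtype.ext (by
          show a⁻¹ * ((s : G) * t) * a = a⁻¹ * (s : G) * a * (a⁻¹ * (t : G) * a)
          group) }
    obtain ⟨N, hN⟩ := exists_trace_kernel hM (intEl_indSet hM z B) σ
    refine ⟨Nat.card C * N, ?_⟩
    rw [Nat.cast_mul, ← hN, Finset.mul_sum, Finset.mul_sum, Finset.sum_filter]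
    refine Finset.sum_congr rfl fun s _ => ?_
    by_cases hs : p ∣ orderOf s
    · simp [hs]
    · rw [if_pos hs, if_pos hs,
        ← inner_indSet hM hz hB (show ¬ p ∣ orderOf (σ s) by rwa [σ.orderOf_eq]) hs]
      congr 1
      rw [blockKernelAt_eq_sum, blockKernelAt_eq_sum]
      refine congrArg _ (Finset.sum_congr rfl fun ζ _ => ?_)
      rw [← irr_isClassFunction ζ (z * (σ s : G)) a,
        show a * (z * (σ s : G)) * a⁻¹ = z ^ k * (s : G) by
          rw [← ha]; show a * (z * (a⁻¹ * (s : G) * a)) * a⁻¹ = _; group]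
  · refine ⟨0, ?_⟩
    rw [Finset.sum_eq_zero, mul_zero, Nat.cast_zero]
    intro s hs
    have hs' := hreg (Finset.mem_filter.1 hs).2
    rw [blockKernelAt, sum_block_mul_conj_eq_zero hM (intEl_blockIdem hM hB)
      ⟨(s : G), rfl, (hzc s).pow_left k, hzk, hs'⟩ ⟨(s : G), rfl, hzc s, hz, hs'⟩ hconj, mul_zero]

/-- A block has at least as many fixed characters as its rank. -/
theorem rank_le_card_fixed (hM : Cfsg.IsPModular p M) {B : Set (Cfsg.IrrCharacter G)}
    (hB : Cfsg.IsPBlock M B) {k : ℕ} (hk : k.Coprime (Nat.card G))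
    (hfix : ∀ g : G, ¬ p ∣ orderOf g → g ^ k = g) :
    Cfsg.blockRank p B ≤ Nat.card {χ : Cfsg.IrrCharacter G //
      χ ∈ B ∧ ∀ g, (χ : G → ℂ) (g ^ k) = (χ : G → ℂ) g} := by
  classical
  haveI := Fintype.ofFinite G
  haveI := Fintype.ofFinite (Cfsg.IrrCharacter G)
  set T := Finset.univ.filter fun χ : Cfsg.IrrCharacter G =>
    χ ∈ B ∧ ∀ g, (χ : G → ℂ) (g ^ k) = (χ : G → ℂ) g
  rw [Nat.card_eq_fintype_card, Fintype.card_subtype]
  have hT : (T.card : ℂ) = ∑ g : G, blockKernelAt B (g ^ k) g := by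
    have hinner : ∀ χ : Cfsg.IrrCharacter G,
        Cfsg.classInner (fun g => (χ : G → ℂ) (g ^ k)) (χ : G → ℂ) =
          if ∀ g, (χ : G → ℂ) (g ^ k) = (χ : G → ℂ) g then 1 else 0 := fun χ => by
      let χ' : Cfsg.IrrCharacter G :=
        ⟨fun g => (χ : G → ℂ) (g ^ k), OddChar.PowTwist.isIrr_comp_pow χ.2 hk⟩
      rw [show (fun g => (χ : G → ℂ) (g ^ k)) = (χ' : G → ℂ) from rfl, classInner_irr]
      exact if_congr ⟨fun h g => congrFun (congrArg Subtype.val h) g,
        fun h => Subtype.ext (funext h)⟩ rfl rfl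
    calc (T.card : ℂ) = ∑ χ : Cfsg.IrrCharacter G,
          if χ ∈ B then Cfsg.classInner (fun g => (χ : G → ℂ) (g ^ k)) (χ : G → ℂ) else 0 := by
          simp only [hinner, ← ite_and]
          exact (Finset.sum_boole _ _).symm
      _ = _ := by
          simp only [blockKernelAt_eq_sum, Finset.mul_sum]
          rw [Finset.sum_comm]
          refine Finset.sum_congr rfl fun χ _ => ?_
          split
          · rw [classInner_def, Finset.mul_sum]
          · simp
  have hpart : ∀ g : G, ∃ z, Cfsg.IsPPart p g z := exists_ppart hM.1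
  choose pp hpp using hpart
  have hsing : ∃ N : ℕ, (Nat.card G : ℂ) *
      ∑ g ∈ Finset.univ.filter (fun g : G => p ∣ orderOf g), blockKernelAt B (g ^ k) g =
        (N : ℂ) := by
    have hshare : ∀ z : G, ∃ N : ℕ, (Nat.card G : ℂ) *
        ∑ g ∈ (Finset.univ.filter (fun g : G => p ∣ orderOf g)).filter (fun g => pp g = z),
          blockKernelAt B (g ^ k) g = (N : ℂ) := by
      intro z
      by_cases hne : ∃ g, p ∣ orderOf g ∧ pp g = z
      · obtain ⟨g₀, hg₀, rfl⟩ := hne
        have hz : ∃ j, orderOf (pp g₀) = p ^ j := by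
          obtain ⟨y, -, -, h, -⟩ := hpp g₀
          exact h
        obtain ⟨N, hN⟩ := section_share hM hB hk hfix hz
        refine ⟨N, Eq.trans (congrArg _ (Finset.sum_congr ?_ fun _ _ => rfl)) hN⟩
        ext g
        simp only [Finset.mem_filter, Finset.mem_univ, true_and]
        refine ⟨fun h => h.2 ▸ hpp g, fun h => ⟨by_contra fun hg => ?_,
          ppart_unique hM.1 (hpp g) h⟩⟩
        have h1 : pp g₀ = 1 := ppart_unique hM.1 h (isPPart_one hM.1 hg)
        obtain ⟨y, hy, -, -, hyr⟩ := hpp g₀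
        rw [h1, one_mul] at hy
        exact hyr (hy ▸ hg₀)
      · refine ⟨0, ?_⟩
        rw [Finset.sum_eq_zero fun g hg => absurd
          ⟨g, (Finset.mem_filter.1 (Finset.mem_filter.1 hg).1).2, (Finset.mem_filter.1 hg).2⟩ hne,
          mul_zero, Nat.cast_zero]
    choose N hN using hshare
    refine ⟨∑ z, N z, ?_⟩
    rw [← Finset.sum_fiberwise _ pp, Finset.mul_sum, Nat.cast_sum]
    exact Finset.sum_congr rfl fun z _ => hN z
  obtain ⟨N, hN⟩ := hsing
  have hreg : ∑ g ∈ Finset.univ.filter (fun g : G => ¬ p ∣ orderOf g),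
      blockKernelAt B (g ^ k) g = (Cfsg.blockRank p B : ℂ) := by
    rw [blockRank_eq_trace hM (intEl_blockIdem hM hB), Finset.sum_filter]
    refine Finset.sum_congr rfl fun g _ => ?_
    by_cases hg : p ∣ orderOf g
    · simp [hg]
    · simp [hg, hfix g hg]
  have h : ((Nat.card G * T.card : ℕ) : ℂ) =
      ((Nat.card G * Cfsg.blockRank p B + N : ℕ) : ℂ) := by
    push_cast
    rw [hT, ← Finset.sum_filter_add_sum_filter_not Finset.univ (fun g : G => ¬ p ∣ orderOf g),
      mul_add, hreg, ← hN]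
    simp only [not_not]
  have h' := Nat.cast_injective (R := ℂ) h
  exact Nat.le_of_mul_le_mul_left ((Nat.le_add_right _ N).trans_eq h'.symm) (Nat.card_pos (α := G))

end Cfsg.Agent.Blocks.BrauerChar
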