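import Mathlib
import Cfsg.Prelude.Def_BlockRank
import Cfsg.Agent.Lib.Blocks.BrauerChar.Blocks
import Cfsg.Agent.BlockCharsA.DegreeSum
import Cfsg.Agent.BlockCharsA.CyclicDefect.Main

/-!
# The sum of the squared degrees of a block

The squared degrees sum to the products of the degrees of the Brauer characters and of the
projective characters; each product is a multiple of the square of the common divisor times the
part of the group order.
-/

set_option linter.style.haveILetI false
set_option linter.unusedSectionVars false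

namespace Cfsg.Agent.Blocks.BrauerChar

open Cfsg.Agent.Blocks Cfsg.Agent.Characters
open scoped ComplexConjugate

universe u

variable {G : Type u} [Group G] [Finite G] {p : ℕ} {M : Ideal Cfsg.AlgInt}

theorem square_sum (hM : Cfsg.IsPModular p M) {B : Set (Cfsg.IrrCharacter G)}
    (hB : Cfsg.IsPBlock M B) {g : ℕ} (hg1 : ∀ χ ∈ B, g ∣ Cfsg.charDegree (χ : G → ℂ))
    (hg2 : ∀ g' : ℕ, (∀ χ ∈ B, g' ∣ Cfsg.charDegree (χ : G → ℂ)) → g' ∣ g) :
    g.factorization p = (Nat.card G).factorization p - Cfsg.blockDefect p B ∧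
      ∃ v : ℕ, 0 < v ∧ ¬ p ∣ v ∧ Cfsg.blockRank p B ≤ v ∧
        ∑ᶠ χ ∈ B, Cfsg.charDegree (χ : G → ℂ) ^ 2 =
          p ^ (2 * (Nat.card G).factorization p - Cfsg.blockDefect p B) *
            (g / p ^ ((Nat.card G).factorization p - Cfsg.blockDefect p B)) ^ 2 * v := by
  classical
  haveI := Fintype.ofFinite G
  haveI := Fintype.ofFinite (Cfsg.IrrCharacter G)
  haveI := fact_prime_of_pm hM
  have hA := intEl_blockIdem hM hB
  obtain ⟨ψ, hψ, hψd, hda, hmin⟩ := BlockCharsA.DegreeSum.exists_min hM hB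
  set a := (Nat.card G).factorization p
  set d := Cfsg.blockDefect p B
  have hg0 : g ≠ 0 := fun h =>
    BlockCharsA.DegreeSum.deg_pos ψ (Nat.eq_zero_of_zero_dvd (h ▸ hg1 ψ hψ))
  have hgf : g.factorization p = a - d := by
    refine le_antisymm (hψd ▸ (Nat.factorization_le_iff_dvd hg0
      (BlockCharsA.DegreeSum.deg_pos ψ)).2 (hg1 ψ hψ) p) ?_
    refine (hM.1.pow_dvd_iff_le_factorization hg0).1 (hg2 _ fun χ hχ => ?_)
    exact (hM.1.pow_dvd_iff_le_factorization (BlockCharsA.DegreeSum.deg_pos χ)).2 (hmin χ hχ)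
  refine ⟨hgf, ?_⟩
  set u := g / p ^ (a - d) with hu
  have hgu : g = p ^ (a - d) * u := by rw [hu, ← hgf, Nat.ordProj_mul_ordCompl_eq_self]
  have hpu : ¬ p ∣ u := by rw [hu, ← hgf]; exact Nat.not_dvd_ordCompl hM.1 hg0
  have hu0 : 0 < u := Nat.pos_of_ne_zero fun h => hpu (h ▸ dvd_zero p)
  set SB := Finset.univ.filter (· ∈ B) with hSB
  set C := Finset.univ.filter (InA hM B) with hC
  let Φ : Cls G hM → ℕ := fun c => ∑ η ∈ SB, rk hM c η * Cfsg.charDegree (η : G → ℂ)
  have hlift : ∀ (c : Cls G hM) (η : Cfsg.IrrCharacter G),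
      ∃ z : ℤ, Cfsg.classInner (lift hM c) (η : G → ℂ) = (z : ℂ) := fun c η =>
    classInner_gen_int (isGen_lift hM c) (isGen_of_isCharacter (irr_isCharacter η))
  choose z hz using hlift
  have hcC : ∀ {c}, c ∈ C → InA hM B c := fun h => (Finset.mem_filter.1 h).2
  have hgdeg : ∀ c ∈ C, g ∣ deg hM c := fun c hc => by
    have e : (deg hM c : ℤ) = ∑ η ∈ SB, z c η * (Cfsg.charDegree (η : G → ℂ) : ℤ) := by
      apply Int.cast_injective (α := ℂ)
      push_cast
      rw [← ext_ibr_one hM c, ibr_eq_sum hM hA (hcC hc), map_sum, Finset.sum_apply]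
      simp only [map_smul, Pi.smul_apply, smul_eq_mul, hz,
        ext_res (irr_isClassFunction _) (g := (1 : G)) (p := p) (by simp [hM.1.ne_one]),
        BlockCharsA.DegreeSum.deg_cast]
      exact Finset.sum_congr (by congr!) fun _ _ => rfl
    refine Int.natCast_dvd_natCast.1 (e ▸ Finset.dvd_sum fun η hη => dvd_mul_of_dvd_right
      (Int.natCast_dvd_natCast.2 (hg1 η (Finset.mem_filter.1 hη).2)) _)
  have hΦg : ∀ c, g ∣ Φ c := fun c => Finset.dvd_sum fun η hη =>
    dvd_mul_of_dvd_right (hg1 η (Finset.mem_filter.1 hη).2) _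
  have hΦp : ∀ c, p ^ a ∣ Φ c := fun c => by
    have h := BlockCharsA.CyclicDefect.pow_dvd_sum_of_vanish hM
      (fun η : SB => (η : Cfsg.IrrCharacter G)) (fun η => (rk hM c η : ℤ)) fun x hx => by
        simp only [Int.cast_natCast]
        rw [Finset.sum_coe_sort SB fun η => (rk hM c η : ℂ) * (η : G → ℂ) x]
        exact sum_rk_singular hM hA c hx
    rw [Finset.sum_coe_sort SB fun η => (rk hM c η : ℤ) * (Cfsg.charDegree (η : G → ℂ) : ℤ)] at h
    exact_mod_cast h
  have hcop : Nat.Coprime (p ^ a) u := Nat.Coprime.pow_left _ ((hM.1.coprime_iff_not_dvd).2 hpu)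
  have hΦpu : ∀ c, p ^ a * u ∣ Φ c := fun c =>
    hcop.mul_dvd_of_dvd_of_dvd (hΦp c) ((hgu ▸ dvd_mul_left u _).trans (hΦg c))
  have hΦ0 : ∀ c ∈ C, 0 < Φ c := fun c hc => by
    refine Nat.pos_of_ne_zero fun h0 => (deg_pos hM c).ne' ?_
    have hall := Finset.sum_eq_zero_iff.1 h0
    have e : evalChar (ext p (ibr hM c)) (pi hM c) = 0 := by
      rw [← evalChar_lift hM c (intEl_pi hM c) (pi_idem hM c),
        show pi hM c = blockIdem B * pi hM c from (hcC hc).symm,
        evalChar_mul_expand B (isClassFunction_lift hM c)]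
      refine Finset.sum_eq_zero fun η hη => ?_
      rw [evalChar_pi, (mul_eq_zero.1 (hall η (by simpa [hSB] using hη))).resolve_right
        (BlockCharsA.DegreeSum.deg_pos η), Nat.cast_zero, mul_zero]
    rw [evalChar_ibr, if_pos rfl] at e
    exact absurd e one_ne_zero
  choose m hm using hgdeg
  choose w hw using hΦpu
  let v : ℕ := ∑ c : C, m c c.2 * w c
  have hsum : ∑ᶠ χ ∈ B, Cfsg.charDegree (χ : G → ℂ) ^ 2 = p ^ (2 * a - d) * u ^ 2 * v := by
    calc ∑ᶠ χ ∈ B, Cfsg.charDegree (χ : G → ℂ) ^ 2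
        = ∑ η ∈ SB, ∑ c, rk hM c η * deg hM c * Cfsg.charDegree (η : G → ℂ) := by
          rw [ZStar.Principal.finsum_mem_eq_sum_filter]
          exact Finset.sum_congr (by congr!) fun η _ => by
            rw [← Finset.sum_mul, ← charDegree_eq_sum hM η, sq]
      _ = ∑ c, deg hM c * Φ c := by
          rw [Finset.sum_comm]
          refine Finset.sum_congr rfl fun c _ => ?_
          rw [Finset.mul_sum]
          exact Finset.sum_congr rfl fun η _ => by ring
      _ = ∑ c : C, deg hM (c : Cls G hM) * Φ (c : Cls G hM) := by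
          rw [Finset.sum_coe_sort C fun c => deg hM c * Φ c]
          refine (Finset.sum_subset (Finset.subset_univ C) fun c _ hc => ?_).symm
          rw [show Φ c = 0 from Finset.sum_eq_zero fun η hη => by
            rw [rk_eq_zero hM hA fun h => hc (Finset.mem_filter.2 ⟨Finset.mem_univ _,
              h.1 (Finset.mem_filter.1 hη).2⟩), zero_mul], mul_zero]
      _ = _ := by
          rw [Finset.mul_sum]
          refine Finset.sum_congr rfl fun c _ => ?_
          rw [hm c c.2, hw c, hgu, show 2 * a - d = (a - d) + a by omega, pow_add]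
          ring
  have hv1 : C.card ≤ v := by
    have hpos : ∀ c : C, 1 ≤ m c c.2 * w c := fun c => by
      refine Nat.mul_pos (Nat.pos_of_ne_zero fun h => ?_) (Nat.pos_of_ne_zero fun h => ?_)
      · exact (deg_pos hM c.1).ne' (by rw [hm c c.2, h, mul_zero])
      · exact (hΦ0 c c.2).ne' (by rw [hw c, h, mul_zero])
    calc C.card = ∑ _c : C, 1 := by simp
      _ ≤ v := Finset.sum_le_sum fun c _ => hpos c
  have hrank : Cfsg.blockRank p B = C.card := by
    rw [blockRank_eq hM hA, Nat.card_eq_fintype_card, Fintype.card_subtype]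
  obtain ⟨x, hx⟩ := BlockCharsA.DegreeSum.exists_defectClass hM hB
  have hval := (BlockCharsA.DegreeSum.degreeSum_valuation hM hB hx).2
  rw [hsum] at hval
  have hv0 : v ≠ 0 := fun h => by
    rw [h, mul_zero] at hsum
    rw [ZStar.Principal.finsum_mem_eq_sum_filter, Finset.sum_eq_zero_iff] at hsum
    exact BlockCharsA.DegreeSum.deg_pos ψ
      (pow_eq_zero_iff two_ne_zero |>.1 (hsum ψ (by simpa using hψ)))
  refine ⟨v, Nat.pos_of_ne_zero hv0, fun hpv => ?_, hrank ▸ hv1, hsum⟩
  rw [Nat.factorization_mul (mul_ne_zero (pow_ne_zero _ hM.1.ne_zero) (pow_ne_zero _ hu0.ne')) hv0,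
    Nat.factorization_mul (pow_ne_zero _ hM.1.ne_zero) (pow_ne_zero _ hu0.ne'), Finsupp.add_apply,
    Finsupp.add_apply, hM.1.factorization_pow, Finsupp.single_eq_same, Nat.factorization_pow,
    Finsupp.smul_apply, Nat.factorization_eq_zero_of_not_dvd hpu] at hval
  have := hM.1.factorization_pos_of_dvd hv0 hpv
  simp only [smul_zero] at hval
  omega

end Cfsg.Agent.Blocks.BrauerChar
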